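/-
PU module Qd (for S2766): `p ≥ 5`, `Struct1`, `Q` abelian, `Q = V C_Q(T)` gives `G = G₀ × E`, `G₀ ≅ qdOver F`, `E` elementary abelian.
Split: [QdA] exists_data, invOf_*, [QdB] q_dec, g_dec, e_normal; [QdC] comm_e, deriv (L₃); [QdD] p_abelian, l3_inj; [QdE] final iso.
CLAIM on the forum topic 'pushing-up S2764/5'.
-/
import Cfsg.Agent.Lib.PU.FinalI
import Cfsg.Agent.Lib.PU.QdE
import Cfsg.Agent.Lib.PU.QdC
import Cfsg.Agent.Lib.Classical.NormalSL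

set_option autoImplicit false
set_option linter.unusedSectionVars false
set_option linter.unusedVariables false
namespace Cfsg.Agent.Lib.PU
open Subgroup Cfsg Cfsg.Agent.Lib.PLocal.BorelTwo
open scoped commutatorElement MatrixGroups

variable {G : Type*} [Group G] [Finite G] {p : ℕ} [Fact p.Prime] {F : Type} [Field F] [Fintype F]
variable {S : Sylow p G} {K M : Subgroup G} {Ψ : G →* PSL(2, F)} {T : Subgroup G}

/-- The data used below. -/
structure QdData (c : Ctx S K M F Ψ) (H : Struct1 S T) (ρ : G →* SL(2, F))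
    (ψ : Additive ↥(vOf (S : Subgroup G)) →+ (Fin 2 → F)) (z : G) : Prop where
  hp : 5 ≤ p
  hQab : ∀ a ∈ pCore p G, ∀ b ∈ pCore p G, a * b = b * a
  hQdec : ∀ a ∈ pCore p G, ∃ v ∈ vOf (S : Subgroup G), ∃ d ∈ pCore p G, a = v * d ∧ ∀ t ∈ T, d * t = t * d
  hρ : Function.Surjective ρ
  hψ : Function.Surjective ψ
  hψker : ∀ u : ↥(vOf (S : Subgroup G)), ψ (Additive.ofMul u) = 0 ↔ (u : G) ∈ z0Of (S : Subgroup G)
  hρker : ∀ g, ρ g = 1 ↔ g ∈ pCore p G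
  hact : ∀ (g : G) (u w : ↥(vOf (S : Subgroup G))), (w : G) = g * u * g⁻¹ →
    ψ (Additive.ofMul w) = ((ρ g : SL(2, F)) : Matrix (Fin 2) (Fin 2) F).mulVec (ψ (Additive.ofMul u))
  hρS : ∀ s ∈ (S : Subgroup G), ∃ a : F, ρ s = uu a
  /-- `S` exponent `p`, class `≤ 2` -/
  hSexp : ∀ s ∈ (S : Subgroup G), s ^ p = 1
  hScl : ∀ a ∈ (S : Subgroup G), ∀ b ∈ (S : Subgroup G), ⁅a, b⁆ ∈ zOf (S : Subgroup G)
  hz : ρ z = -1
  hz2 : z * z = 1

/-- Paper: `natSec_of_sp`, `sp_V`, `cV_le_Q_1`, `class_1`, `exp_1`. `-1 ≠ 1` as `p` odd. Take `z₀` with `ρ z₀ = -1`, `z₀ = 2^a m` in order, `m` odd: `z = z₀^m`, `ρ z = -1`, `z² ∈ Q` is a `2`-element in a `p`-group. -/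
theorem exists_data (c : Ctx S K M F Ψ) (H : Struct1 S T) (hp : 5 ≤ p)
    (hQab : ∀ a ∈ pCore p G, ∀ b ∈ pCore p G, a * b = b * a)
    (hQdec : ∀ a ∈ pCore p G, ∃ v ∈ vOf (S : Subgroup G), ∃ d ∈ pCore p G, a = v * d ∧ ∀ t ∈ T, d * t = t * d) :
    ∃ ρ ψ z, QdData c H ρ ψ z := by
  classical
  have L := c.loc
  obtain ⟨ρ, ψ, hρ, hψ, hψker, _, hρker', hact, _, hS⟩ := natSec_of_sp c (sp_V L)
  have hρker : ∀ g, ρ g = 1 ↔ g ∈ pCore p G := by
    intro g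
    rw [hρker']
    constructor
    · exact fun h => cV_le_Q_1 c H h
    · intro hg u hu
      have : ⁅u, g⁆ = 1 := commutatorElement_eq_one_iff_mul_comm.2 (L.hVcen u hu g hg)
      rw [this]; exact Subgroup.one_mem _
  have hp2 : p ≠ 2 := by omega
  have hpodd : Odd p := (Fact.out : p.Prime).odd_of_ne_two hp2
  -- the involution
  obtain ⟨z₀, hz₀⟩ := hρ (-1)
  obtain ⟨a, m, hm, hn⟩ : ∃ a m : ℕ, Odd m ∧ orderOf z₀ = 2 ^ a * m := by
    have hn0 : orderOf z₀ ≠ 0 := (orderOf_pos z₀).ne'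
    obtain ⟨a, m, hm, hn⟩ := Nat.exists_eq_two_pow_mul_odd hn0
    exact ⟨a, m, hm, hn⟩
  have hρz : ρ (z₀ ^ m) = -1 := by
    rw [map_pow, hz₀]
    exact hm.neg_one_pow
  have hz2Q : (z₀ ^ m) * (z₀ ^ m) ∈ pCore p G := by
    rw [← hρker, map_mul, hρz]
    simp
  have hz2 : (z₀ ^ m) * (z₀ ^ m) = 1 := by
    -- a `2`-element in a `p`-group
    set y := (z₀ ^ m) * (z₀ ^ m) with hy
    have h2 : y ^ (2 ^ a) = 1 := by
      have e : y = z₀ ^ (2 * m) := by rw [hy, ← pow_add]; congr 1; ring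
      rw [e, ← pow_mul]
      have : 2 * m * 2 ^ a = 2 * orderOf z₀ := by rw [hn]; ring
      rw [this, pow_mul', pow_orderOf_eq_one, one_pow]
    have hpg : IsPGroup p ↥(pCore p G) := Cfsg.Agent.Lib.Core.Basic.pCore_isPGroup
    obtain ⟨k, hk⟩ := hpg ⟨y, hz2Q⟩
    have hk' : y ^ (p ^ k) = 1 := by
      have := congrArg Subtype.val hk
      simpa using this
    have hcop : Nat.Coprime (2 ^ a) (p ^ k) :=
      Nat.Coprime.pow _ _ ((Nat.coprime_primes Nat.prime_two (Fact.out : p.Prime)).2 (Ne.symm hp2))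
    have := (Nat.Coprime.eq_one_of_dvd
      (hcop.coprime_dvd_left (orderOf_dvd_of_pow_eq_one h2)) (orderOf_dvd_of_pow_eq_one hk'))
    exact orderOf_eq_one_iff.1 this
  refine ⟨ρ, ψ, z₀ ^ m, ?_⟩
  exact
  { hp := hp
    hQab := hQab
    hQdec := hQdec
    hρ := hρ
    hψ := hψ
    hψker := hψker
    hρker := hρker
    hact := hact
    hρS := hS
    hSexp := by
      intro s hs
      have h := (exp_1 c H).2 hp2
      have := Monoid.pow_exponent_eq_one (⟨s, hs⟩ : ↥(S : Subgroup G))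
      rw [h] at this
      simpa using congrArg Subtype.val this
    hScl := by
      intro a ha b hb
      have h1 : (S : Subgroup G).lowerCentralSeries 2 = ⊥ := (class_1 c H).1
      refine ⟨Subgroup.mul_mem _ (Subgroup.mul_mem _ (Subgroup.mul_mem _ ha hb) (inv_mem ha)) (inv_mem hb), ?_⟩
      show ⁅a, b⁆ ∈ centralizer _
      rw [Subgroup.mem_centralizer_iff]
      intro x hx
      have h2 : ⁅⁅a, b⁆, x⁆ ∈ (S : Subgroup G).lowerCentralSeries 2 :=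
        Subgroup.commutator_mem_commutator (Subgroup.commutator_mem_commutator ha hb) hx
      rw [h1, Subgroup.mem_bot] at h2
      exact (commutatorElement_eq_one_iff_mul_comm.mp h2).symm
    hz := hρz
    hz2 := hz2 }

/-- `V₁ = {v ∈ V | z v z⁻¹ = v⁻¹}`. -/
def invOf (V : Subgroup G) (hV : ∀ a ∈ V, ∀ b ∈ V, a * b = b * a) (z : G) : Subgroup G where
  carrier := {v | v ∈ V ∧ z * v * z⁻¹ = v⁻¹}
  mul_mem' := by
    rintro a b ⟨ha, ha'⟩ ⟨hb, hb'⟩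
    refine ⟨mul_mem ha hb, ?_⟩
    have : z * (a * b) * z⁻¹ = (z * a * z⁻¹) * (z * b * z⁻¹) := by group
    rw [this, ha', hb', mul_inv_rev]
    exact hV _ (inv_mem ha) _ (inv_mem hb)
  one_mem' := ⟨one_mem _, by simp⟩
  inv_mem' := by
    rintro a ⟨ha, ha'⟩
    refine ⟨inv_mem ha, ?_⟩
    have : z * a⁻¹ * z⁻¹ = (z * a * z⁻¹)⁻¹ := by group
    rw [this, ha']

/-! Auxiliary lemmas for [QdB]. -/
namespace QdBAux

lemma inv_eq_of_mul_self {z : G} (h : z * z = 1) : z⁻¹ = z :=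
  inv_eq_of_mul_eq_one_right h

lemma odd_of_five {p : ℕ} [hp : Fact p.Prime] (h5 : 5 ≤ p) : ∃ m, p = 2 * m + 1 :=
  (hp.out.odd_of_ne_two (by omega))

lemma exists_decomp (c : Ctx S K M F Ψ) (H : Struct1 S T) (g : G) :
    ∃ l ∈ normalClosure (T : Set G), ∃ x ∈ pCore p G, l * x = g := by
  have hcov := cover_closure c H.hTQ
  have hg : g ∈ ((normalClosure (T : Set G) ⊔ pCore p G : Subgroup G) : Set G) := by
    rw [hcov]; trivial
  rw [Subgroup.mul_normal] at hg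
  obtain ⟨l, hl, x, hx, e⟩ := Set.mem_mul.mp hg
  exact ⟨l, hl, x, hx, e⟩

lemma comm_L (H : Struct1 S T) (a : G) (ha : a ∈ pCore p G) (l : G) (hl : l ∈ normalClosure (T : Set G)) :
    ⁅a, l⁆ ∈ vOf (S : Subgroup G) :=
  comm_closure (T := T) (A := vOf (S : Subgroup G))
    (fun c hc t ht => Subgroup.subset_normalClosure (H.hTZ c hc t ht)) a ha l hl

end QdBAux

section
variable {c : Ctx S K M F Ψ} {H : Struct1 S T} {ρ : G →* SL(2, F)}
  {ψ : Additive ↥(vOf (S : Subgroup G)) →+ (Fin 2 → F)} {z : G} (D : QdData c H ρ ψ z)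
include D

lemma V_comm : ∀ a ∈ vOf (S : Subgroup G), ∀ b ∈ vOf (S : Subgroup G), a * b = b * a := by
  intro a ha b hb
  exact D.hQab a (c.loc.hVQ ha) b (c.loc.hVQ hb)

/-- `V₁ = invOf V z`. (a) Paper: `ψ(z v z⁻¹) = -ψ v` so `w = (z v z⁻¹) v ∈ Z₀`; `v₁ = v * w^((p-1)/2)` is inverted; `v = v₁ * z₀`. -/
theorem v_dec {v : G} (hv : v ∈ vOf (S : Subgroup G)) :
    ∃ v₁ ∈ invOf (vOf (S : Subgroup G)) (V_comm D) z, ∃ z₀ ∈ z0Of (S : Subgroup G), v = v₁ * z₀ := by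
  have L := c.loc
  have hp2 : p ≠ 2 := by have := D.hp; omega
  obtain ⟨k, hk⟩ := (Fact.out : p.Prime).odd_of_ne_two hp2
  have hVn : (vOf (S : Subgroup G)).Normal := Subgroup.normalClosure_normal
  have hv' : z * v * z⁻¹ ∈ vOf (S : Subgroup G) := hVn.conj_mem v hv z
  let u : ↥(vOf (S : Subgroup G)) := ⟨v, hv⟩
  let u' : ↥(vOf (S : Subgroup G)) := ⟨z * v * z⁻¹, hv'⟩
  have h1 : ψ (Additive.ofMul u') = -ψ (Additive.ofMul u) := by
    rw [D.hact z u u' rfl, D.hz]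
    simp [Matrix.SpecialLinearGroup.coe_neg, Matrix.neg_mulVec]
  have hwE : z * v * z⁻¹ * v ∈ z0Of (S : Subgroup G) := by
    have : ψ (Additive.ofMul (u' * u)) = 0 := by
      rw [ofMul_mul, map_add, h1]; simp
    exact (D.hψker (u' * u)).1 this
  set w : G := z * v * z⁻¹ * v with hw
  have hwV : w ∈ vOf (S : Subgroup G) := hwE.1
  have hwc : w ∈ center G := hwE.2
  have hwp : w ^ p = 1 := L.hexp w hwV
  have hWc : w ^ k ∈ center G := pow_mem hwc k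
  refine ⟨v * w ^ k, ⟨mul_mem hv (pow_mem hwV k), ?_⟩, (w ^ k)⁻¹, inv_mem (pow_mem hwE k), by group⟩
  set W : G := w ^ k with hW
  have hWz : ∀ x, W * x = x * W := fun x => (Subgroup.mem_center_iff.1 hWc x).symm
  have hwz : ∀ x, w * x = x * w := fun x => (Subgroup.mem_center_iff.1 hwc x).symm
  have e1 : z * v * z⁻¹ = w * v⁻¹ := by rw [hw]; group
  have e2 : W * w * W = 1 := by
    have : w ^ (2 * k + 1) = 1 := by rw [← hk]; exact hwp
    rw [pow_succ, two_mul, pow_add] at this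
    rw [hW]
    calc w ^ k * w * w ^ k = w ^ k * (w * w ^ k) := by group
      _ = w ^ k * (w ^ k * w) := by rw [hwz]
      _ = w ^ k * w ^ k * w := by group
      _ = 1 := this
  have e3 : w * W = W⁻¹ := by
    rw [eq_inv_iff_mul_eq_one]
    calc w * W * W = W * w * W := by rw [hWz w]
      _ = 1 := e2
  calc z * (v * W) * z⁻¹ = (z * v * z⁻¹) * W := by
        have : z * (v * W) * z⁻¹ = z * v * (W * z⁻¹) := by group
        rw [this, hWz z⁻¹]; group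
    _ = w * v⁻¹ * W := by rw [e1]
    _ = (w * W) * v⁻¹ := by rw [mul_assoc w, ← hWz v⁻¹, ← mul_assoc]
    _ = W⁻¹ * v⁻¹ := by rw [e3]
    _ = (v * W)⁻¹ := by group

/-- `V₁` meets `C_G(z)` trivially (`x = x⁻¹`, exponent `p` odd); in particular `V₁ ∩ Z₀ = 1`. -/
theorem inv_inter {x : G} (hx : x ∈ invOf (vOf (S : Subgroup G)) (V_comm D) z) (h : z * x = x * z) : x = 1 := by
  have L := c.loc
  have hp2 : p ≠ 2 := by have := D.hp; omega
  have hxV : x ∈ vOf (S : Subgroup G) := hx.1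
  have hxi : z * x * z⁻¹ = x⁻¹ := hx.2
  have h2 : x ^ 2 = 1 := by
    have : x = x⁻¹ := by rw [← hxi, h]; group
    rw [pow_two]
    nth_rewrite 1 [this]
    group
  have hxp : x ^ p = 1 := L.hexp x hxV
  have hcop : Nat.Coprime 2 p := (Nat.coprime_primes Nat.prime_two (Fact.out : p.Prime)).2 (Ne.symm hp2)
  have := Nat.Coprime.eq_one_of_dvd (hcop.coprime_dvd_left (orderOf_dvd_of_pow_eq_one h2))
    (orderOf_dvd_of_pow_eq_one hxp)
  exact orderOf_eq_one_iff.1 this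

/-- `ψ` is bijective on `V₁`. From `v_dec`, `inv_inter`, `hψker`. -/
theorem psi_bij : ∀ w : Fin 2 → F, ∃! v₁ : ↥(vOf (S : Subgroup G)),
    (v₁ : G) ∈ invOf (vOf (S : Subgroup G)) (V_comm D) z ∧ ψ (Additive.ofMul v₁) = w := by
  intro w
  obtain ⟨a, ha⟩ := D.hψ w
  obtain ⟨a, rfl⟩ := Additive.ofMul.surjective a
  obtain ⟨v₁, hv₁, z₀, hz₀, he⟩ := v_dec D a.2
  refine ⟨⟨v₁, hv₁.1⟩, ⟨hv₁, ?_⟩, ?_⟩
  · have hz0 : ψ (Additive.ofMul (⟨z₀, hz₀.1⟩ : ↥(vOf (S : Subgroup G)))) = 0 :=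
      (D.hψker _).2 hz₀
    have e : a = (⟨v₁, hv₁.1⟩ : ↥(vOf (S : Subgroup G))) * ⟨z₀, hz₀.1⟩ := Subtype.ext he
    rw [e, ofMul_mul, map_add, hz0, add_zero] at ha
    exact ha
  · rintro ⟨y, hyV⟩ ⟨hy, hyw⟩
    have hv₁ψ : ψ (Additive.ofMul (⟨v₁, hv₁.1⟩ : ↥(vOf (S : Subgroup G)))) = w := by
      have hz0 : ψ (Additive.ofMul (⟨z₀, hz₀.1⟩ : ↥(vOf (S : Subgroup G)))) = 0 :=
        (D.hψker _).2 hz₀
      have e : a = (⟨v₁, hv₁.1⟩ : ↥(vOf (S : Subgroup G))) * ⟨z₀, hz₀.1⟩ := Subtype.ext he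
      rw [e, ofMul_mul, map_add, hz0, add_zero] at ha
      exact ha
    have hxE : y * v₁⁻¹ ∈ z0Of (S : Subgroup G) := by
      have : ψ (Additive.ofMul ((⟨y, hyV⟩ : ↥(vOf (S : Subgroup G))) * (⟨v₁, hv₁.1⟩ : ↥(vOf (S : Subgroup G)))⁻¹)) = 0 := by
        rw [ofMul_mul, ofMul_inv, map_add, map_neg, hyw, hv₁ψ]; simp
      exact (D.hψker _).1 this
    have hxI : y * v₁⁻¹ ∈ invOf (vOf (S : Subgroup G)) (V_comm D) z :=
      Subgroup.mul_mem _ hy (Subgroup.inv_mem _ hv₁)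
    have hx1 : y * v₁⁻¹ = 1 :=
      inv_inter D hxI (Subgroup.mem_center_iff.1 hxE.2 z)
    exact Subtype.ext (mul_inv_eq_one.1 hx1)

/-- `g z g⁻¹ = z c`, `c ∈ Q` (`ρ` agrees, `-1` central). -/
theorem z_conj (g : G) : z⁻¹ * (g * z * g⁻¹) ∈ pCore p G := by
  rw [← D.hρker]
  simp only [map_mul, map_inv, D.hz]
  simp

/-- `V₁` normal. Paper: `z (g v₁ g⁻¹) z⁻¹ = g (z c) v₁ (z c)⁻¹ g⁻¹`-type computation, `Q` centralizes `V`. -/
theorem inv_normal : (invOf (vOf (S : Subgroup G)) (V_comm D) z).Normal := by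
  have L := c.loc
  have hVn : (vOf (S : Subgroup G)).Normal := Subgroup.normalClosure_normal
  constructor
  intro v hv g
  refine ⟨hVn.conj_mem v hv.1 g, ?_⟩
  have hvi : z * v * z⁻¹ = v⁻¹ := hv.2
  have hc := z_conj D g⁻¹
  set x : G := z⁻¹ * (g⁻¹ * z * g⁻¹⁻¹) with hx
  have hxc : x * v = v * x := (L.hVcen v hv.1 x hc).symm
  have e : g⁻¹ * z * g = z * x := by rw [hx]; group
  have e' : z * g = g * (z * x) := by rw [← e]; group
  calc z * (g * v * g⁻¹) * z⁻¹ = (z * g) * v * (z * g)⁻¹ := by group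
    _ = g * (z * x) * v * (g * (z * x))⁻¹ := by rw [e']
    _ = g * (z * (x * v * x⁻¹) * z⁻¹) * g⁻¹ := by group
    _ = g * (z * v * z⁻¹) * g⁻¹ := by
        have : x * v * x⁻¹ = v := by rw [hxc]; group
        rw [this]
    _ = g * v⁻¹ * g⁻¹ := by rw [hvi]
    _ = (g * v * g⁻¹)⁻¹ := by group

/-- `z` acts trivially on `Q/V`. Paper: `L = normalClosure T`, `L ⊔ Q = ⊤` (`cover_closure` argument: `L⊔Q` is normal, contains `S`, hence `⊤`), `[Q,L] ≤ V` (`H.hTZ`, `Z ≤ V`), `z = l x`, `Q` abelian. -/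
theorem z_Q_V {a : G} (ha : a ∈ pCore p G) : z * a * z⁻¹ * a⁻¹ ∈ vOf (S : Subgroup G) := by
  obtain ⟨l, hl, x, hx, hlx⟩ := QdBAux.exists_decomp c H z
  have h1 : ⁅a, l⁆ ∈ vOf (S : Subgroup G) := QdBAux.comm_L H a ha l hl
  have h2 : x * a * x⁻¹ = a := by rw [D.hQab x hx a ha, mul_inv_cancel_right]
  have h3 : z * a * z⁻¹ * a⁻¹ = ⁅a, l⁆⁻¹ := by
    rw [← hlx, commutatorElement_inv, commutatorElement_def, mul_inv_rev]
    have : l * x * a * (x⁻¹ * l⁻¹) = l * (x * a * x⁻¹) * l⁻¹ := by group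
    rw [this, h2]
  rw [h3]
  exact inv_mem h1

/-- (d) `Q = E V₁`, `E = Q ∩ C(z)`. Paper: `a ∈ Q`, `w = z a z⁻¹ a⁻¹ ∈ V` (`z_Q_V`), `z w z⁻¹ = w⁻¹` (`z² = 1`, `Q` abelian), `e = a * w^((p-1)/2)`... check `z e z⁻¹ = e`. -/
theorem q_dec {a : G} (ha : a ∈ pCore p G) : ∃ e ∈ pCore p G, z * e = e * z ∧
    ∃ y ∈ invOf (vOf (S : Subgroup G)) (V_comm D) z, a = e * y := by
  have hVQ : vOf (S : Subgroup G) ≤ pCore p G := c.loc.hVQ
  have hzinv : z⁻¹ = z := QdBAux.inv_eq_of_mul_self D.hz2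
  obtain ⟨m, hm⟩ := QdBAux.odd_of_five D.hp
  set b := z * a * z⁻¹ with hb
  have hbQ : b ∈ pCore p G := (inferInstance : (pCore p G).Normal).conj_mem a ha z
  set w := b * a⁻¹ with hw
  have hwV : w ∈ vOf (S : Subgroup G) := z_Q_V D ha
  have hwQ : w ∈ pCore p G := hVQ hwV
  -- `z` inverts `w`
  have hbz : z * b * z⁻¹ = a := by
    rw [hb, hzinv]
    calc z * (z * a * z) * z = (z * z) * a * (z * z) := by group
      _ = a := by rw [D.hz2]; group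
  have hwinv : z * w * z⁻¹ = w⁻¹ := by
    have e1 : z * w * z⁻¹ = (z * b * z⁻¹) * b⁻¹ := by
      rw [hw, hb]; group
    rw [e1, hbz]
    have e2 : w⁻¹ = a * b⁻¹ := by rw [hw, mul_inv_rev, inv_inv]
    exact e2.symm
  have hwmem : w ∈ invOf (vOf (S : Subgroup G)) (V_comm D) z := ⟨hwV, hwinv⟩
  set y := w ^ m with hy
  have hymem : y ∈ invOf (vOf (S : Subgroup G)) (V_comm D) z := pow_mem hwmem m
  have hyQ : y ∈ pCore p G := hVQ hymem.1
  have hwp : w ^ p = 1 := D.hSexp w (Cfsg.Agent.Lib.Core.Basic.pCore_le_sylow S hwQ)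
  -- `y² = w⁻¹`
  have hy2 : y * y = w⁻¹ := by
    have : w ^ (2 * m) * w = 1 := by rw [← pow_succ, ← hm]; exact hwp
    rw [hy, ← pow_add, ← two_mul]
    exact eq_inv_of_mul_eq_one_left this
  refine ⟨a * y⁻¹, mul_mem ha (inv_mem hyQ), ?_, y, hymem, by group⟩
  -- `z (a y⁻¹) z⁻¹ = b y = w a y = a y⁻¹`
  have h1 : z * (a * y⁻¹) * z⁻¹ = a * y⁻¹ := by
    have e1 : z * (a * y⁻¹) * z⁻¹ = b * (z * y * z⁻¹)⁻¹ := by rw [hb]; group
    rw [e1, hymem.2, inv_inv]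
    have e2 : b = w * a := by rw [hw]; group
    rw [e2]
    have e3 : w * a * y = a * (w * y) := by
      rw [D.hQab w hwQ a ha, mul_assoc]
    rw [e3]
    congr 1
    have e4 : w = y⁻¹ * y⁻¹ := by
      rw [← mul_inv_rev, hy2, inv_inv]
    rw [e4]
    group
  calc z * (a * y⁻¹) = z * (a * y⁻¹) * z⁻¹ * z := by group
    _ = a * y⁻¹ * z := by rw [h1]

/-- (e) `G = V₁ C(z)`. Paper: `g z g⁻¹ = z c`, `(z c)² = 1`, so `z c z⁻¹ = c⁻¹`, by `q_dec` `c = e y`, `e² = 1`, `e = 1`, `c ∈ V₁`. `v₁ = c^((p-1)/2)` (the inverse of a square root of `c`)... `v₁⁻¹ g` commutes with `z`. -/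
theorem g_dec (g : G) : ∃ y ∈ invOf (vOf (S : Subgroup G)) (V_comm D) z, ∃ a : G, z * a = a * z ∧ g = y * a := by
  have hVQ : vOf (S : Subgroup G) ≤ pCore p G := c.loc.hVQ
  have hzinv : z⁻¹ = z := QdBAux.inv_eq_of_mul_self D.hz2
  obtain ⟨m, hm⟩ := QdBAux.odd_of_five D.hp
  set d := z⁻¹ * (g * z * g⁻¹) with hd
  have hdQ : d ∈ pCore p G := z_conj D g
  -- `z d z⁻¹ = d⁻¹`
  have hgz : g * z * g⁻¹ = z * d := by rw [hd]; group
  have hsq : (z * d) * (z * d) = 1 := by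
    rw [← hgz]
    calc g * z * g⁻¹ * (g * z * g⁻¹) = g * (z * z) * g⁻¹ := by group
      _ = 1 := by rw [D.hz2]; group
  have hdinv : z * d * z⁻¹ = d⁻¹ := by
    rw [hzinv]
    have : z * d * z * d = 1 := by rw [← hsq]; group
    exact eq_inv_of_mul_eq_one_left this
  -- `d ∈ V₁`
  obtain ⟨e, heQ, hez, y, hy, hdey⟩ := q_dec D hdQ
  have hyQ : y ∈ pCore p G := hVQ hy.1
  have hep : e ^ p = 1 := D.hSexp e (Cfsg.Agent.Lib.Core.Basic.pCore_le_sylow S heQ)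
  have hee : e * e = 1 := by
    -- `z d z⁻¹ = e y⁻¹` and `d⁻¹ = y⁻¹ e⁻¹`
    have e1 : z * d * z⁻¹ = e * y⁻¹ := by
      rw [hdey]
      have : z * (e * y) * z⁻¹ = (z * e * z⁻¹) * (z * y * z⁻¹) := by group
      rw [this, hy.2, hez, mul_inv_cancel_right]
    have e2 : d⁻¹ = e⁻¹ * y⁻¹ := by
      rw [hdey, mul_inv_rev]
      exact D.hQab _ (inv_mem hyQ) _ (inv_mem heQ)
    have e3 : e * y⁻¹ = e⁻¹ * y⁻¹ := by rw [← e1, hdinv, e2]
    have e4 : e = e⁻¹ := mul_right_cancel e3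
    calc e * e = e * e⁻¹ := by rw [← e4]
      _ = 1 := mul_inv_cancel e
  have he1 : e = 1 := by
    have h2m : e ^ (2 * m) = 1 := by rw [pow_mul, pow_two, hee, one_pow]
    rw [hm, pow_succ, h2m, one_mul] at hep
    exact hep
  have hdy : d = y := by rw [hdey, he1, one_mul]
  have hdp : d ^ p = 1 := D.hSexp d (Cfsg.Agent.Lib.Core.Basic.pCore_le_sylow S hdQ)
  have hdmem : d ∈ invOf (vOf (S : Subgroup G)) (V_comm D) z := by rw [hdy]; exact hy
  -- `v₁ = d^m`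
  set v := d ^ m with hv
  have hvmem : v ∈ invOf (vOf (S : Subgroup G)) (V_comm D) z := pow_mem hdmem m
  have hv2 : v * v * d = 1 := by
    rw [hv, ← pow_add, ← two_mul, ← pow_succ, ← hm]
    exact hdp
  have hvz : z * v * z⁻¹ = v⁻¹ := hvmem.2
  have hvz' : v⁻¹ * z = z * v := by
    rw [← hvz]; group
  refine ⟨v, hvmem, v⁻¹ * g, ?_, by group⟩
  -- `a z a⁻¹ = v⁻¹ (z d) v = z v d v = z`
  have hdv : d * v = v * d := by rw [hv]; exact (Commute.pow_right (Commute.refl d) m).eq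
  have key : v⁻¹ * (g * z * g⁻¹) * v = z := by
    rw [hgz]
    calc v⁻¹ * (z * d) * v = (v⁻¹ * z) * (d * v) := by group
      _ = z * v * (v * d) := by rw [hvz', hdv]
      _ = z * (v * v * d) := by group
      _ = z := by rw [hv2, mul_one]
  calc z * (v⁻¹ * g) = (v⁻¹ * (g * z * g⁻¹) * v) * (v⁻¹ * g) := by rw [key]
    _ = v⁻¹ * g * z := by group

/-- `E = Q ⊓ C(z)` is normal (`g_dec`; `V₁ ≤ Q` abelian). -/
theorem e_normal : ((pCore p G) ⊓ centralizer ({z} : Set G)).Normal := by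
  have hVQ : vOf (S : Subgroup G) ≤ pCore p G := c.loc.hVQ
  refine ⟨fun x hx g => ?_⟩
  obtain ⟨hxQ, hxz⟩ := hx
  have hxz' : z * x = x * z := (Subgroup.mem_centralizer_iff.mp hxz) z (Set.mem_singleton z)
  obtain ⟨y, hy, a, haz, rfl⟩ := g_dec D g
  have hyQ : y ∈ pCore p G := hVQ hy.1
  have hQn : (pCore p G).Normal := inferInstance
  have haxQ : a * x * a⁻¹ ∈ pCore p G := hQn.conj_mem x hxQ a
  have e1 : y * a * x * (y * a)⁻¹ = a * x * a⁻¹ := by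
    have : y * a * x * (y * a)⁻¹ = y * (a * x * a⁻¹) * y⁻¹ := by group
    rw [this, D.hQab y hyQ _ haxQ, mul_inv_cancel_right]
  rw [e1]
  refine ⟨haxQ, Subgroup.mem_centralizer_iff.mpr ?_⟩
  intro t ht
  rw [Set.mem_singleton_iff] at ht
  subst ht
  have haz' : a⁻¹ * t = t * a⁻¹ := by
    rw [inv_mul_eq_iff_eq_mul, ← mul_assoc, ← haz, mul_assoc, mul_inv_cancel, mul_one]
  calc t * (a * x * a⁻¹) = a * (t * x) * a⁻¹ := by
        rw [← mul_assoc, ← mul_assoc, haz]; group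
    _ = a * x * (t * a⁻¹) := by rw [hxz']; group
    _ = a * x * (a⁻¹ * t) := by rw [haz']
    _ = a * x * a⁻¹ * t := by group

/-- `[E, C(z)] ≤ Z₀`. Paper: `a ∈ C(z)`, `a = l x`, `l ∈ L`, `x ∈ Q` abelian: `⁅e,a⁆ = ⁅e,l⁆ ∈ V`, and `∈ E`; `V ∩ C(z) ≤ Z₀` (`v_dec`, `inv_inter`). -/
theorem comm_e {e a : G} (he : e ∈ pCore p G) (hez : z * e = e * z) (ha : z * a = a * z) :
    ⁅e, a⁆ ∈ z0Of (S : Subgroup G) := by
  obtain ⟨l, hl, x, hx, hlx⟩ := QdBAux.exists_decomp c H a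
  -- `⁅e,a⁆ = ⁅e,l⁆ ∈ V`
  have h1 : ⁅e, l⁆ ∈ vOf (S : Subgroup G) := QdBAux.comm_L H e he l hl
  have h2 : x * e⁻¹ * x⁻¹ = e⁻¹ := by
    rw [D.hQab x hx _ (inv_mem he), mul_inv_cancel_right]
  have h3 : ⁅e, a⁆ = ⁅e, l⁆ := by
    rw [← hlx, commutatorElement_def, commutatorElement_def, mul_inv_rev]
    have : e * (l * x) * e⁻¹ * (x⁻¹ * l⁻¹) = e * l * (x * e⁻¹ * x⁻¹) * l⁻¹ := by group
    rw [this, h2]
  have hwV : ⁅e, a⁆ ∈ vOf (S : Subgroup G) := by rw [h3]; exact h1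
  -- `⁅e,a⁆` commutes with `z`
  have hwz : z * ⁅e, a⁆ = ⁅e, a⁆ * z := by
    have hezc : Commute z e := hez
    have hazc : Commute z a := ha
    have : Commute z ⁅e, a⁆ := by
      rw [commutatorElement_def]
      exact ((hezc.mul_right hazc).mul_right hezc.inv_right).mul_right hazc.inv_right
    exact this
  obtain ⟨v₁, hv₁, z₀, hz₀, hvz⟩ := v_dec D hwV
  have hz₀c : z₀ ∈ center G := hz₀.2
  have hv₁z : z * v₁ = v₁ * z := by
    have e1 : z * (v₁ * z₀) = (v₁ * z₀) * z := by rw [← hvz]; exact hwz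
    have e2 : z * z₀ = z₀ * z := Subgroup.mem_center_iff.mp hz₀c z
    have e3 : (z * v₁) * z₀ = (v₁ * z) * z₀ := by
      calc (z * v₁) * z₀ = z * (v₁ * z₀) := by group
        _ = (v₁ * z₀) * z := e1
        _ = v₁ * (z₀ * z) := by group
        _ = v₁ * (z * z₀) := by rw [e2]
        _ = (v₁ * z) * z₀ := by group
    exact mul_right_cancel e3
  have hv₁1 : v₁ = 1 := inv_inter D hv₁ hv₁z
  rw [hvz, hv₁1, one_mul]
  exact hz₀

/-- `L₃ = ⁅⁅C,C⁆,⁅⁅C,C⁆,⁅C,C⁆⁆⁆`-free statement: there is `L₃ ≤ C(z)` perfect, centralizing `E`, with `ρ(L₃) = SL₂(F)`.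
Paper: `c ↦ (e ↦ ⁅e,c⁆)` is a homomorphism from `C` to the abelian group `Hom(E, Z₀)` by `comm_e`, so `D = ⁅C,C⁆` centralizes `E`. `SL₂(F)` perfect (`|F| ≥ 5`: `⁅dd λ, uu a⁆ = uu ((λ²-1) a)`, lower matrices similar, `bruhat`). `ρ(C) = SL₂(F)` by `g_dec` (`ρ V₁ = 1`), `ρ(D) = SL₂(F)`. `L₃ = ⁅D,D⁆`: `ρ(L₃) = SL₂(F)`, `D = L₃ (D ∩ E)`, `D ∩ E` central in `D`, so `⁅L₃,L₃⁆ = ⁅D,D⁆ = L₃`. -/
theorem exists_l3 : ∃ L₃ : Subgroup G, L₃ ≤ centralizer ({z} : Set G) ∧ ⁅L₃, L₃⁆ = L₃ ∧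
    (∀ l ∈ L₃, ∀ e ∈ pCore p G, z * e = e * z → l * e = e * l) ∧ L₃.map ρ = ⊤ := by
  classical
  have L := c.loc
  -- `SL₂(F)` is perfect
  have hF4 : 4 ≤ Nat.card F := by
    have hdvd : Fintype.card F ∣ Nat.card ↥(S : Subgroup G) := by
      rw [← L.hcS]
      exact Subgroup.relIndex_dvd_card _ _
    obtain ⟨n, hn⟩ := IsPGroup.iff_card.mp (S.isPGroup' : IsPGroup p ↥(S : Subgroup G))
    rw [hn] at hdvd
    obtain ⟨k, -, hk⟩ := (Nat.dvd_prime_pow (Fact.out : p.Prime)).1 hdvd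
    have hk0 : k ≠ 0 := by
      rintro rfl
      have := L.hq
      rw [pow_zero] at hk
      omega
    have hp5 := D.hp
    have hle : p ≤ p ^ k := Nat.le_self_pow hk0 p
    rw [Nat.card_eq_fintype_card, hk]
    omega
  obtain ⟨a₀, ha₀, hasq⟩ := Cfsg.Agent.Lib.Classical.NormalSL.exists_ne_zero_sq_ne_one hF4
  have hperf : commutator SL(2, F) = ⊤ := Matrix.SL2.commutator_eq_top ha₀ hasq
  set C : Subgroup G := centralizer ({z} : Set G) with hC
  have hmemC : ∀ a, a ∈ C ↔ z * a = a * z := by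
    intro a
    rw [hC, mem_centralizer_singleton_iff]
    exact eq_comm
  set D0 : Subgroup G := ⁅C, C⁆ with hD0
  set L₃ : Subgroup G := ⁅D0, D0⁆ with hL₃
  have hD0C : D0 ≤ C := by
    rw [hD0, commutator_le]
    intro x hx y hy
    rw [commutatorElement_def]
    exact mul_mem (mul_mem (mul_mem hx hy) (inv_mem hx)) (inv_mem hy)
  have hLD : L₃ ≤ D0 := by
    rw [hL₃, commutator_le]
    intro x hx y hy
    rw [commutatorElement_def]
    exact mul_mem (mul_mem (mul_mem hx hy) (inv_mem hx)) (inv_mem hy)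
  -- `D0` centralizes `E`
  have hDE : ∀ d ∈ D0, ∀ e ∈ pCore p G, z * e = e * z → d * e = e * d := by
    intro d hd e he hez
    have hle : D0 ≤ centralizer ({e} : Set G) := by
      rw [hD0, commutator_le]
      intro a ha b hb
      rw [mem_centralizer_singleton_iff]
      have h1 := comm_e D he hez ((hmemC a).1 ha)
      have h2 := comm_e D he hez ((hmemC b).1 hb)
      exact QdCAux.comm_of_central (fun g => ((mem_center_iff.mp h1.2) g).symm)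
        (fun g => ((mem_center_iff.mp h2.2) g).symm)
    exact mem_centralizer_singleton_iff.mp (hle hd)
  -- images
  have hCtop : C.map ρ = ⊤ := by
    rw [eq_top_iff]
    intro x _
    obtain ⟨g, rfl⟩ := D.hρ x
    obtain ⟨y, hy, a, ha, rfl⟩ := g_dec D g
    refine ⟨a, (hmemC a).2 ha, ?_⟩
    have hy1 : ρ y = 1 := (D.hρker y).2 (L.hVQ hy.1)
    rw [map_mul, hy1, one_mul]
  have hDtop : D0.map ρ = ⊤ := by
    rw [hD0, map_commutator, hCtop]
    exact hperf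
  have hLtop : L₃.map ρ = ⊤ := by
    rw [hL₃, map_commutator, hDtop]
    exact hperf
  refine ⟨L₃, hLD.trans hD0C, ?_, fun l hl e he hez => hDE l (hLD hl) e he hez, hLtop⟩
  apply le_antisymm
  · exact commutator_mono hLD hLD
  · -- `d = x * l`, `x ∈ E` central in `D0`
    have hdec : ∀ d ∈ D0, ∃ l ∈ L₃, ∃ x ∈ D0, (∀ g ∈ D0, g * x = x * g) ∧ d = x * l := by
      intro d hd
      have hm : ρ d ∈ L₃.map ρ := by rw [hLtop]; trivial
      obtain ⟨l, hl, e⟩ := hm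
      have hxQ : d * l⁻¹ ∈ pCore p G := by
        rw [← D.hρker]
        rw [map_mul, map_inv, e, mul_inv_cancel]
      have hxD : d * l⁻¹ ∈ D0 := mul_mem hd (inv_mem (hLD hl))
      refine ⟨l, hl, d * l⁻¹, hxD, fun g hg => hDE g hg _ hxQ ((hmemC _).1 (hD0C hxD)), by group⟩
    rw [hL₃, commutator_le]
    intro d₁ h₁ d₂ h₂
    obtain ⟨l₁, hl₁, x₁, hx₁, hc₁, rfl⟩ := hdec d₁ h₁
    obtain ⟨l₂, hl₂, x₂, hx₂, hc₂, rfl⟩ := hdec d₂ h₂
    have hD1 : ∀ a ∈ D0, ∀ b ∈ D0, a * b * a⁻¹ ∈ D0 := fun a ha b hb =>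
      mul_mem (mul_mem ha hb) (inv_mem ha)
    rw [QdCAux.comm_c1 ((hc₁ _ (mul_mem (mul_mem (hLD hl₁) (mul_mem hx₂ (hLD hl₂))) (inv_mem (hLD hl₁)))).symm),
      QdCAux.comm_c2 (hc₂ _ (hLD hl₁))
        ((hc₂ _ (mul_mem (mul_mem (mul_mem (hLD hl₁) (hLD hl₂)) (inv_mem (hLD hl₁))) (inv_mem (hLD hl₂)))).symm)]
    exact commutator_mem_commutator hl₁ hl₂


/-- `S ∩ C(z)` is abelian. Paper: `S' ≤ V₁`: `S = T Q` (`H.hTQ`), class 2, `T`, `Q` abelian, `⁅t c, t' c'⁆ = ⁅t,c'⁆⁅c,t'⁆`, `c = v d` (`hQdec`), `⁅v d,t'⁆ = ⁅v,t'⁆`, `v = v₁ z₀` (`v_dec`), `⁅v₁,t'⁆ ∈ V₁`. `inv_inter`. -/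
theorem s_c_abelian : ∀ a ∈ (S : Subgroup G), ∀ b ∈ (S : Subgroup G), z * a = a * z → z * b = b * z → a * b = b * a := by
  have L := c.loc
  set V₁ := invOf (vOf (S : Subgroup G)) (V_comm D) z with hV₁
  haveI hN : V₁.Normal := inv_normal D
  -- elements of `S` are `t * c`
  have hdec : ∀ s ∈ (S : Subgroup G), ∃ t ∈ T, ∃ q ∈ pCore p G, s = t * q := by
    intro s hs
    have hs' : s ∈ T ⊔ pCore p G := by rw [H.hTQ]; exact hs
    obtain ⟨t, ht, q, hq, e⟩ := Subgroup.mem_sup_of_normal_right.1 hs'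
    exact ⟨t, ht, q, hq, e.symm⟩
  -- key: the images commute
  have hcomm : ∀ q ∈ pCore p G, ∀ t ∈ T, ((QuotientGroup.mk' V₁) q) * (QuotientGroup.mk' V₁) t
      = (QuotientGroup.mk' V₁) t * (QuotientGroup.mk' V₁) q := by
    intro q hq t ht
    obtain ⟨v, hv, d, hd, e, hdt⟩ := D.hQdec q hq
    obtain ⟨v₁, hv₁, z₀, hz₀, e'⟩ := v_dec D hv
    have h1 : (QuotientGroup.mk' V₁) v₁ = 1 := by
      rw [QuotientGroup.mk'_apply, QuotientGroup.eq_one_iff]; exact hv₁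
    have h2 : z₀ * t = t * z₀ := (Subgroup.mem_center_iff.1 hz₀.2 t).symm
    have h3 := congrArg (QuotientGroup.mk' V₁) h2
    have h4 := congrArg (QuotientGroup.mk' V₁) (hdt t ht)
    rw [map_mul, map_mul] at h3 h4
    rw [e, e', map_mul, map_mul, h1, one_mul, mul_assoc, h4, ← mul_assoc, h3, mul_assoc]
  have hTc : ∀ x ∈ T, ∀ y ∈ T, (QuotientGroup.mk' V₁) x * (QuotientGroup.mk' V₁) y
      = (QuotientGroup.mk' V₁) y * (QuotientGroup.mk' V₁) x := by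
    intro x hx y hy
    rw [← map_mul, ← map_mul, H.hTab x hx y hy]
  have hQc : ∀ x ∈ pCore p G, ∀ y ∈ pCore p G, (QuotientGroup.mk' V₁) x * (QuotientGroup.mk' V₁) y
      = (QuotientGroup.mk' V₁) y * (QuotientGroup.mk' V₁) x := by
    intro x hx y hy
    rw [← map_mul, ← map_mul, D.hQab x hx y hy]
  intro a ha b hb hza hzb
  have hq : (QuotientGroup.mk' V₁) a * (QuotientGroup.mk' V₁) b
      = (QuotientGroup.mk' V₁) b * (QuotientGroup.mk' V₁) a := by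
    obtain ⟨t, ht, q, hq, rfl⟩ := hdec a ha
    obtain ⟨t', ht', q', hq', rfl⟩ := hdec b hb
    simp only [map_mul]
    have A := hTc t ht t' ht'
    have B := hQc q hq q' hq'
    have C := hcomm q hq t' ht'
    have E := hcomm q' hq' t ht
    calc _ = (QuotientGroup.mk' V₁) t * ((QuotientGroup.mk' V₁) q * (QuotientGroup.mk' V₁) t') * (QuotientGroup.mk' V₁) q' := by group
      _ = (QuotientGroup.mk' V₁) t * (QuotientGroup.mk' V₁) t' * ((QuotientGroup.mk' V₁) q * (QuotientGroup.mk' V₁) q') := by rw [C]; group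
      _ = (QuotientGroup.mk' V₁) t' * ((QuotientGroup.mk' V₁) t * (QuotientGroup.mk' V₁) q') * (QuotientGroup.mk' V₁) q := by rw [A, B]; group
      _ = _ := by rw [← E]; group
  have hm : a * b * a⁻¹ * b⁻¹ ∈ V₁ := by
    rw [← QuotientGroup.eq_one_iff, ← QuotientGroup.mk'_apply]
    simp only [map_mul, map_inv]
    rw [hq]; group
  have hz : z * (a * b * a⁻¹ * b⁻¹) = (a * b * a⁻¹ * b⁻¹) * z := by
    have hza' : z * a⁻¹ = a⁻¹ * z := by
      rw [eq_inv_mul_iff_mul_eq, ← mul_assoc, ← hza, mul_assoc, mul_inv_cancel, mul_one]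
    have hzb' : z * b⁻¹ = b⁻¹ * z := by
      rw [eq_inv_mul_iff_mul_eq, ← mul_assoc, ← hzb, mul_assoc, mul_inv_cancel, mul_one]
    calc z * (a * b * a⁻¹ * b⁻¹) = (z * a) * b * a⁻¹ * b⁻¹ := by group
      _ = a * (z * b) * a⁻¹ * b⁻¹ := by rw [hza]; group
      _ = a * b * (z * a⁻¹) * b⁻¹ := by rw [hzb]; group
      _ = a * b * a⁻¹ * (z * b⁻¹) := by rw [hza']; group
      _ = _ := by rw [hzb']; group
  have h1 := inv_inter D hm hz
  have : a * b * a⁻¹ = b := by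
    rwa [mul_inv_eq_one] at h1
  rw [mul_inv_eq_iff_eq_mul] at this
  exact this

/-- A `p`-subgroup of `C(z)` is abelian. -/
theorem p_sub_abelian {P : Subgroup G} (hP : IsPGroup p P) (hPz : ∀ x ∈ P, z * x = x * z) :
    ∀ a ∈ P, ∀ b ∈ P, a * b = b * a := by
  have L := c.loc
  obtain ⟨S', hS'⟩ := hP.exists_le_sylow
  obtain ⟨g, hg⟩ := MulAction.exists_smul_eq G S' S
  obtain ⟨y, hy, w, hw, e⟩ := g_dec D g
  -- `w` moves `S'` to `S` as well
  have hyS : y ∈ (S : Subgroup G) := Cfsg.Agent.Lib.Core.Basic.pCore_le_sylow S (L.hVQ hy.1)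
  have hmem : ∀ x ∈ P, w * x * w⁻¹ ∈ (S : Subgroup G) := by
    intro x hx
    have h1 : g * x * g⁻¹ ∈ (S : Subgroup G) := by
      rw [← hg, Sylow.coe_subgroup_smul, Subgroup.mem_pointwise_smul_iff_inv_smul_mem]
      simpa [mul_assoc, MulAut.smul_def, MulAut.conj_apply] using hS' hx
    have h2 : w * x * w⁻¹ = y⁻¹ * (g * x * g⁻¹) * y := by rw [e]; group
    rw [h2]
    exact mul_mem (mul_mem (inv_mem hyS) h1) hyS
  have hzc : ∀ x ∈ P, z * (w * x * w⁻¹) = (w * x * w⁻¹) * z := by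
    intro x hx
    have hw' : z * w⁻¹ = w⁻¹ * z := by
      rw [eq_inv_mul_iff_mul_eq, ← mul_assoc, ← hw, mul_assoc, mul_inv_cancel, mul_one]
    calc z * (w * x * w⁻¹) = (z * w) * x * w⁻¹ := by group
      _ = w * (z * x) * w⁻¹ := by rw [hw]; group
      _ = w * x * (z * w⁻¹) := by rw [hPz x hx]; group
      _ = _ := by rw [hw']; group
  intro a ha b hb
  have := s_c_abelian D _ (hmem a ha) _ (hmem b hb) (hzc a ha) (hzc b hb)
  have h3 : w * (a * b) * w⁻¹ = w * (b * a) * w⁻¹ := by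
    calc w * (a * b) * w⁻¹ = (w * a * w⁻¹) * (w * b * w⁻¹) := by group
      _ = (w * b * w⁻¹) * (w * a * w⁻¹) := this
      _ = _ := by group
  simpa using h3

/-- `ρ` is injective on `L₃`. Paper: `S ∩ C(z)` is a Sylow subgroup of `C(z)`: `S = V₁ (S ∩ C)`, `G = V₁ C` (`g_dec` applied inside `S`: `z` normalizes `S` since `ρ(z s z⁻¹) = ρ s` and `ker ρ = Q ≤ S`; `V₁ ≤ S`), `V₁ ∩ C = 1`: orders. So a Sylow `P₃` of `L₃` is abelian (conjugate into `S ∩ C`).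
`A = L₃ ∩ E = ker (ρ|L₃)` is central in `L₃`. Transfer to the abelian `P₃` (`MonoidHom.transfer`, `Subgroup.transfer_center_pow` or the like): trivial as `L₃` is perfect; so `a^(index) = 1` for `a ∈ A`; index prime to `p`, `a` a `p`-element; `a = 1`. -/
theorem l3_inj {L₃ : Subgroup G} (h1 : L₃ ≤ centralizer ({z} : Set G)) (h2 : ⁅L₃, L₃⁆ = L₃)
    (h3 : ∀ l ∈ L₃, ∀ e ∈ pCore p G, z * e = e * z → l * e = e * l) (h4 : L₃.map ρ = ⊤) :
    ∀ l ∈ L₃, ρ l = 1 → l = 1 := by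
  classical
  have L := c.loc
  intro l hl hρl
  have hlQ : l ∈ pCore p G := (D.hρker l).1 hρl
  have hzmem : ∀ x ∈ L₃, z * x = x * z := by
    intro x hx
    have := h1 hx
    rw [mem_centralizer_singleton_iff] at this
    exact this.symm
  have hlc : ∀ x ∈ L₃, x * l = l * x := fun x hx => h3 x hx l hlQ (hzmem l hl)
  -- a Sylow subgroup of `L₃`
  obtain ⟨P⟩ : Nonempty (Sylow p ↥L₃) := inferInstance
  have hPab : ∀ a ∈ (P : Subgroup ↥L₃), ∀ b ∈ (P : Subgroup ↥L₃), a * b = b * a := by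
    intro a ha b hb
    have hp1 : IsPGroup p ((P : Subgroup ↥L₃).map L₃.subtype) :=
      P.isPGroup'.map _
    have := p_sub_abelian D hp1 (by
      rintro x ⟨x', -, rfl⟩
      exact hzmem _ x'.2) a.1 ⟨a, ha, rfl⟩ b.1 ⟨b, hb, rfl⟩
    exact Subtype.ext this
  letI : CommGroup ↥(P : Subgroup ↥L₃) :=
    { (inferInstance : Group ↥(P : Subgroup ↥L₃)) with
      mul_comm := fun a b => Subtype.ext (hPab a.1 a.2 b.1 b.2) }
  -- the transfer
  let τ : ↥L₃ →* ↥(P : Subgroup ↥L₃) := (MonoidHom.id _).transfer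
  -- `L₃` is perfect, so `τ` is trivial
  have hτ : ∀ x : ↥L₃, τ x = 1 := by
    have hcomm : commutator ↥L₃ = ⊤ := by
      rw [eq_top_iff, commutator_def]
      have hmap : Subgroup.map L₃.subtype (⁅(⊤ : Subgroup ↥L₃), (⊤ : Subgroup ↥L₃)⁆) = L₃ := by
        rw [Subgroup.map_commutator, ← MonoidHom.range_eq_map, Subgroup.range_subtype, h2]
      intro x _
      have hx : x.1 ∈ Subgroup.map L₃.subtype (⁅(⊤ : Subgroup ↥L₃), (⊤ : Subgroup ↥L₃)⁆) := by rw [hmap]; exact x.2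
      obtain ⟨x', hx', e⟩ := hx
      have : x' = x := Subtype.ext e
      exact this ▸ hx'
    have hle : (⊤ : Subgroup ↥L₃) ≤ τ.ker := by
      rw [← hcomm]
      exact Abelianization.commutator_subset_ker τ
    intro x
    exact hle (Subgroup.mem_top x)
  let l' : ↥L₃ := ⟨l, hl⟩
  have hl'c : ∀ x : ↥L₃, x * l' = l' * x := fun x => Subtype.ext (hlc x.1 x.2)
  have key : ∀ (k : ℕ) (g₀ : ↥L₃), g₀⁻¹ * l' ^ k * g₀ ∈ (P : Subgroup ↥L₃) → g₀⁻¹ * l' ^ k * g₀ = l' ^ k := by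
    intro k g₀ _
    have : g₀ * l' ^ k = l' ^ k * g₀ := ((Commute.pow_right (show Commute g₀ l' from hl'c g₀) k))
    rw [mul_assoc, ← this]; group
  have hpow := MonoidHom.transfer_eq_pow (MonoidHom.id ↥(P : Subgroup ↥L₃)) l' key
  have hone : l' ^ (P : Subgroup ↥L₃).index = 1 := by
    have h0 : τ l' = 1 := hτ l'
    have h5 := hpow.symm.trans h0
    exact congrArg Subtype.val h5
  have hone' : l ^ (P : Subgroup ↥L₃).index = 1 := congrArg Subtype.val hone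
  -- `l` is a `p`-element
  have hpg : IsPGroup p ↥(pCore p G) := Cfsg.Agent.Lib.Core.Basic.pCore_isPGroup
  obtain ⟨k, hk⟩ := hpg ⟨l, hlQ⟩
  have hk' : l ^ (p ^ k) = 1 := congrArg Subtype.val hk
  have hnd : ¬ p ∣ (P : Subgroup ↥L₃).index := P.not_dvd_index
  have hcop : Nat.Coprime (P : Subgroup ↥L₃).index (p ^ k) :=
    Nat.Coprime.pow_right k ((Nat.Prime.coprime_iff_not_dvd (Fact.out : p.Prime)).2 hnd).symm
  have := Nat.Coprime.eq_one_of_dvd (hcop.coprime_dvd_left (orderOf_dvd_of_pow_eq_one hone'))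
    (orderOf_dvd_of_pow_eq_one hk')
  exact orderOf_eq_one_iff.1 this

/-- Final. Paper: `G₀ = V₁ ⊔ L₃`, `E = Q ⊓ C(z)`. `IsInternalDirectProduct`: `L₃` centralizes `E`, `V₁ ≤ Q` abelian; `G₀ ⊓ E = ⊥`: `v₁ l ∈ E ⇒ v₁ ∈ C(z) ⇒ v₁ = 1 ⇒ l ∈ L₃ ∩ E`, `ρ l = 1`, `l = 1`. `G₀ ⊔ E = ⊤`: `C = L₃ E` (`ρ`), `g_dec`. `E` elementary abelian: `hQab`, `hSexp`.
`G₀ ≃* qdOver F`: every element of `G₀` is `v₁ l` uniquely; map it to the matrix `[[ρ l, ψ v₁],[0,1]]` in `SL₃(F)`; `qdOver F` is exactly the set of matrices with last row `(0,0,1)` (they form a subgroup); multiplicative by `hact`; bijective by `psi_bij`, `l3_inj`, `h4`. -/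
theorem qd_final {L₃ : Subgroup G} (h1 : L₃ ≤ centralizer ({z} : Set G)) (h2 : ⁅L₃, L₃⁆ = L₃)
    (h3 : ∀ l ∈ L₃, ∀ e ∈ pCore p G, z * e = e * z → l * e = e * l) (h4 : L₃.map ρ = ⊤)
    (h5 : ∀ l ∈ L₃, ρ l = 1 → l = 1) :
    ∃ G₀ E : Subgroup G, Cfsg.IsInternalDirectProduct G₀ E ⊤ ∧ Cfsg.IsElementaryAbelian p E ∧
      Nonempty (↥G₀ ≃* ↥(Cfsg.qdOver F)) := by
  classical
  have hVQ : vOf (S : Subgroup G) ≤ pCore p G := c.loc.hVQ
  have hNV : (invOf (vOf (S : Subgroup G)) (V_comm D) z).Normal := inv_normal D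
  have hV₁Q : invOf (vOf (S : Subgroup G)) (V_comm D) z ≤ pCore p G := fun v hv => hVQ hv.1
  have hρV : ∀ v ∈ invOf (vOf (S : Subgroup G)) (V_comm D) z, ρ v = 1 := fun v hv => (D.hρker v).2 (hV₁Q hv)
  have hcz : ∀ a : G, a ∈ centralizer ({z} : Set G) ↔ z * a = a * z := by
    intro a
    rw [mem_centralizer_singleton_iff]
    exact eq_comm
  refine ⟨invOf (vOf (S : Subgroup G)) (V_comm D) z ⊔ L₃, pCore p G ⊓ centralizer ({z} : Set G),
    ⟨le_top, le_top, ?_, ?_, ?_⟩, ⟨?_, ?_⟩, ?_⟩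
  · intro a ha b hb
    have hle : invOf (vOf (S : Subgroup G)) (V_comm D) z ⊔ L₃ ≤
        centralizer ((pCore p G ⊓ centralizer ({z} : Set G) : Subgroup G) : Set G) := by
      refine sup_le ?_ ?_
      · intro v hv
        rw [mem_centralizer_iff]
        intro e he
        exact D.hQab _ he.1 _ (hV₁Q hv)
      · intro l hl
        rw [mem_centralizer_iff]
        intro e he
        exact (h3 l hl e he.1 ((hcz e).1 he.2)).symm
    exact ((mem_centralizer_iff.1 (hle ha)) b hb).symm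
  · rw [eq_bot_iff]
    rintro x ⟨hx, hxE⟩
    have hx' : x ∈ ((invOf (vOf (S : Subgroup G)) (V_comm D) z ⊔ L₃ : Subgroup G) : Set G) := hx
    rw [Subgroup.normal_mul] at hx'
    obtain ⟨v, hv, l, hl, rfl⟩ := Set.mem_mul.1 hx'
    have hzl : z * l = l * z := (hcz l).1 (h1 hl)
    have hzx : z * (v * l) = (v * l) * z := (hcz _).1 hxE.2
    have hzv : z * v = v * z := by
      have : z * v * l = v * z * l := by
        calc z * v * l = z * (v * l) := by group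
          _ = (v * l) * z := hzx
          _ = v * (l * z) := by group
          _ = v * (z * l) := by rw [hzl]
          _ = v * z * l := by group
      exact mul_right_cancel this
    have hv1 : v = 1 := inv_inter D hv hzv
    subst hv1
    rw [one_mul] at hxE ⊢
    have hl1 : ρ l = 1 := (D.hρker l).2 hxE.1
    exact h5 l hl hl1
  · rw [eq_top_iff]
    rintro g -
    obtain ⟨y, hy, a, haz, rfl⟩ := g_dec D g
    have hmem : ρ a ∈ L₃.map ρ := by
      rw [h4]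
      trivial
    obtain ⟨l, hl, hla⟩ := hmem
    have hzl : z * l = l * z := (hcz l).1 (h1 hl)
    have he : l⁻¹ * a ∈ pCore p G ⊓ centralizer ({z} : Set G) := by
      refine ⟨(D.hρker _).1 ?_, (hcz _).2 ?_⟩
      · rw [map_mul, map_inv, hla, inv_mul_cancel]
      · have h' : z * l⁻¹ = l⁻¹ * z := by
          have := (hcz l⁻¹).1 (inv_mem (h1 hl))
          exact this
        calc z * (l⁻¹ * a) = (z * l⁻¹) * a := by group
          _ = (l⁻¹ * z) * a := by rw [h']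
          _ = l⁻¹ * (z * a) := by group
          _ = l⁻¹ * (a * z) := by rw [haz]
          _ = (l⁻¹ * a) * z := by group
    have hrw : y * a = (y * l) * (l⁻¹ * a) := by group
    rw [hrw]
    exact mul_mem_sup (mul_mem_sup hy hl) he
  · exact ⟨⟨fun a b => Subtype.ext (D.hQab _ a.2.1 _ b.2.1)⟩⟩
  · intro a ha
    exact D.hSexp a (Cfsg.Agent.Lib.Core.Basic.pCore_le_sylow S ha.1)
  · have := hNV
    refine Cfsg.Agent.Lib.PU.QdE.qd_iso _ L₃ ρ hρV (fun l hl h => h5 l hl h) h4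
      (fun v => ψ (Additive.ofMul ⟨(v : G), v.2.1⟩)) ⟨?_, ?_⟩ ?_ ?_
    · intro u u' h
      have := ExistsUnique.unique (psi_bij D (ψ (Additive.ofMul ⟨(u : G), u.2.1⟩))) ⟨u.2, rfl⟩ ⟨u'.2, h.symm⟩
      exact Subtype.ext (Subtype.mk.inj this)
    · intro w
      obtain ⟨v, ⟨hv, hw⟩, -⟩ := psi_bij D w
      exact ⟨⟨v, hv⟩, hw⟩
    · intro u w
      rw [← map_add, ← ofMul_mul]
      rfl
    · intro l u w h
      exact D.hact l ⟨u, u.2.1⟩ ⟨w, w.2.1⟩ h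

end

/-- The assembled `G`-level theorem. -/
theorem qd_struct (c : Ctx S K M F Ψ) (H : Struct1 S T) (hp : 5 ≤ p)
    (hQab : ∀ a ∈ pCore p G, ∀ b ∈ pCore p G, a * b = b * a)
    (hQdec : ∀ a ∈ pCore p G, ∃ v ∈ vOf (S : Subgroup G), ∃ d ∈ pCore p G, a = v * d ∧ ∀ t ∈ T, d * t = t * d) :
    ∃ G₀ E : Subgroup G, Cfsg.IsInternalDirectProduct G₀ E ⊤ ∧ Cfsg.IsElementaryAbelian p E ∧
      Nonempty (↥G₀ ≃* ↥(Cfsg.qdOver F)) := by
  obtain ⟨ρ, ψ, z, D⟩ := exists_data c H hp hQab hQdec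
  obtain ⟨L₃, h1, h2, h3, h4⟩ := exists_l3 D
  exact qd_final D h1 h2 h3 h4 (l3_inj D h1 h2 h3 h4)

end Cfsg.Agent.Lib.PU
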