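/-
PU module QdDec (for S2766): `Struct1` with `T = σ(V)`, `σ ∈ Aut S`, gives `Q = V (Q ∩ σ Q)` and `Q' = (σ Q)'`.
-/
import Cfsg.Agent.Lib.PU.Defs

set_option autoImplicit false
set_option linter.unusedSectionVars false
set_option linter.unusedVariables false
namespace Cfsg.Agent.Lib.PU.QdDec
open Subgroup Cfsg
open scoped commutatorElement

variable {G : Type*} [Group G] [Finite G] {p : ℕ} [Fact p.Prime]
variable {S : Sylow p G} {K M : Subgroup G} {q : ℕ} {T : Subgroup G}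

/-- An index computation. -/
lemma sup_eq_top_of_index {P : Type*} [Group P] [Finite P] {N A B : Subgroup P} [N.Normal] {q : ℕ}
    (hq : 0 < q) (hAN : A ⊓ N ≤ B) (hB : B.relIndex A = q) (hN : N.index = q) : A ⊔ N = ⊤ := by
  have h1 : N.relIndex (A ⊔ N) * (A ⊔ N).index = N.index := relIndex_mul_index le_sup_right
  rw [relIndex_sup_right, hN] at h1
  have h2 : B.relIndex A ≤ N.relIndex A := by
    rw [← inf_relIndex_right B A, ← inf_relIndex_right N A]
    refine relIndex_le_of_le_left ?_ ?_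
    · exact fun x hx => ⟨hAN ⟨hx.2, hx.1⟩, hx.2⟩
    · exact Subgroup.index_ne_zero_of_finite
  rw [hB] at h2
  have h3 : (A ⊔ N).index = 1 := by
    have h4 : 0 < (A ⊔ N).index := Nat.pos_of_ne_zero Subgroup.index_ne_zero_of_finite
    by_contra h5
    have h6 : 2 ≤ (A ⊔ N).index := by omega
    have h7 : q * 2 ≤ N.relIndex A * (A ⊔ N).index := Nat.mul_le_mul h2 h6
    omega
  exact index_eq_one.1 h3

/-- `σ(Q)` as a subgroup of `G`. -/
def qp (σ : MulAut ↥(S : Subgroup G)) : Subgroup G :=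
  (((pCore p G).subgroupOf (S : Subgroup G)).map σ.toMonoidHom).map (S : Subgroup G).subtype

lemma mem_qp {σ : MulAut ↥(S : Subgroup G)} {b : G} :
    b ∈ qp σ ↔ ∃ c : ↥(S : Subgroup G), (c : G) ∈ pCore p G ∧ b = ((σ c : ↥(S : Subgroup G)) : G) := by
  constructor
  · rintro ⟨_, ⟨c, hc, rfl⟩, rfl⟩
    exact ⟨c, hc, rfl⟩
  · rintro ⟨c, hc, rfl⟩
    exact ⟨σ c, ⟨c, hc, rfl⟩, rfl⟩

lemma qp_le (σ : MulAut ↥(S : Subgroup G)) : qp σ ≤ (S : Subgroup G) := map_subtype_le _

/-- The relation between `T` and `σ`. -/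
def IsImg (σ : MulAut ↥(S : Subgroup G)) (T : Subgroup G) : Prop :=
  ∀ g, g ∈ T ↔ ∃ v : ↥(S : Subgroup G), (v : G) ∈ vOf (S : Subgroup G) ∧ g = ((σ v : ↥(S : Subgroup G)) : G)

section
variable (L : Loc S K M q) (H : Struct1 S T) {σ : MulAut ↥(S : Subgroup G)} (hT : IsImg σ T)
include L H hT

lemma comm_T_qp {t b : G} (ht : t ∈ T) (hb : b ∈ qp σ) : t * b = b * t := by
  obtain ⟨v, hv, rfl⟩ := (hT t).1 ht
  obtain ⟨c, hc, rfl⟩ := mem_qp.1 hb
  have h1 : v * c = c * v := Subtype.ext (L.hVcen _ hv _ hc)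
  have h2 := congrArg (fun u => ((σ u : ↥(S : Subgroup G)) : G)) h1
  simpa using h2

lemma T_le_qp : T ≤ qp σ := by
  intro t ht
  obtain ⟨v, hv, rfl⟩ := (hT t).1 ht
  exact mem_qp.2 ⟨v, L.hVQ hv, rfl⟩

lemma exists_t : ∃ t ∈ T, t ∉ pCore p G := by
  obtain ⟨t, ht, v, hv, hne⟩ := H.hne
  refine ⟨t, ht, fun htQ => hne ?_⟩
  exact (L.hVcen v hv t htQ).symm

lemma inf_le_z {x : G} (hx : x ∈ vOf (S : Subgroup G)) (hx' : x ∈ qp σ) : x ∈ zOf (S : Subgroup G) := by
  obtain ⟨t, ht, htQ⟩ := exists_t L H hT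
  refine L.hnat t (H.hTS ht) htQ x hx ?_
  exact (comm_T_qp L H hT ht hx').symm

/-- `S = V σ(Q)`. -/
lemma cover {s : G} (hs : s ∈ (S : Subgroup G)) :
    ∃ v ∈ vOf (S : Subgroup G), ∃ b ∈ qp σ, s = v * b := by
  have hVS : vOf (S : Subgroup G) ≤ (S : Subgroup G) :=
    L.hVQ.trans (Cfsg.Agent.Lib.Core.Basic.pCore_le_sylow S)
  have hzS : zOf (S : Subgroup G) ≤ vOf (S : Subgroup G) := subset_normalClosure
  have : ((pCore p G).subgroupOf (S : Subgroup G)).Normal := inferInstance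
  have hn : (((pCore p G).subgroupOf (S : Subgroup G)).map σ.toMonoidHom).Normal :=
    Subgroup.Normal.map inferInstance _ σ.surjective
  have hq : 0 < q := by have := L.hq; omega
  have htop : (vOf (S : Subgroup G)).subgroupOf (S : Subgroup G) ⊔
      ((pCore p G).subgroupOf (S : Subgroup G)).map σ.toMonoidHom = ⊤ := by
    refine sup_eq_top_of_index (B := (zOf (S : Subgroup G)).subgroupOf (S : Subgroup G)) hq ?_ ?_ ?_
    · rintro x ⟨hx1, hx2⟩
      exact inf_le_z L H hT hx1 (Subgroup.mem_map_of_mem _ hx2)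
    · have h1 : ((zOf (S : Subgroup G)).subgroupOf (S : Subgroup G)).relIndex
          ((vOf (S : Subgroup G)).subgroupOf (S : Subgroup G)) = (zOf (S : Subgroup G)).relIndex (vOf (S : Subgroup G)) := by
        rw [subgroupOf, relIndex_comap, map_subgroupOf_eq_of_le hVS]
      rw [h1]
      exact L.hcV
    · exact (Subgroup.index_map_equiv ((pCore p G).subgroupOf (S : Subgroup G)) σ).trans L.hcS
  have hmem : (⟨s, hs⟩ : ↥(S : Subgroup G)) ∈
      (vOf (S : Subgroup G)).subgroupOf (S : Subgroup G) ⊔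
      ((pCore p G).subgroupOf (S : Subgroup G)).map σ.toMonoidHom := by
    rw [htop]; trivial
  have hmem' := hmem
  rw [← SetLike.mem_coe, Subgroup.mul_normal] at hmem'
  obtain ⟨v, hv, b, hb, hvb⟩ := Set.mem_mul.1 hmem'
  refine ⟨v, hv, b, Subgroup.mem_map_of_mem _ hb, ?_⟩
  have := congrArg Subtype.val hvb
  exact this.symm

/-- `Q = V (Q ∩ σ Q)`, the decomposition needed in `qd_struct`. -/
lemma q_dec {a : G} (ha : a ∈ pCore p G) :
    ∃ v ∈ vOf (S : Subgroup G), ∃ d ∈ pCore p G, d ∈ qp σ ∧ a = v * d := by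
  have hQS : pCore p G ≤ (S : Subgroup G) := Cfsg.Agent.Lib.Core.Basic.pCore_le_sylow S
  obtain ⟨v, hv, b, hb, rfl⟩ := cover L H hT (hQS ha)
  refine ⟨v, hv, b, ?_, hb, rfl⟩
  have := mul_mem (inv_mem (L.hVQ hv)) ha
  simpa using this

/-- `σ Q = T (Q ∩ σ Q)`. -/
lemma qp_dec {b : G} (hb : b ∈ qp σ) :
    ∃ t ∈ T, ∃ d ∈ pCore p G, d ∈ qp σ ∧ b = t * d := by
  have hb1 : b ∈ ((T ⊔ pCore p G : Subgroup G) : Set G) := by
    rw [H.hTQ]; exact qp_le σ hb
  rw [Subgroup.mul_normal] at hb1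
  obtain ⟨t, ht, d, hd, rfl⟩ := Set.mem_mul.1 hb1
  refine ⟨t, ht, d, hd, ?_, rfl⟩
  have := mul_mem (inv_mem (T_le_qp L H hT ht)) hb
  simpa using this

end

/-- A commutator identity. -/
lemma comm_central {u v a b : G} (huv : Commute u v) (hua : Commute u a) (hub : Commute u b)
    (hva : Commute v a) (hvb : Commute v b) : ⁅u * a, v * b⁆ = ⁅a, b⁆ := by
  have e1 : (u * a) * (v * b) = (u * v) * (a * b) := by
    calc (u * a) * (v * b) = u * (a * v) * b := by group
      _ = u * (v * a) * b := by rw [hva.eq]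
      _ = (u * v) * (a * b) := by group
  have e2 : (v * b) * (u * a) = (u * v) * (b * a) := by
    calc (v * b) * (u * a) = v * (b * u) * a := by group
      _ = v * (u * b) * a := by rw [hub.eq]
      _ = (v * u) * (b * a) := by group
      _ = (u * v) * (b * a) := by rw [huv.eq]
  have hc : Commute (u * v) (a * b * (b * a)⁻¹) := by
    have h1 : Commute u (a * b * (b * a)⁻¹) :=
      (hua.mul_right hub).mul_right (hub.mul_right hua).inv_right
    have h2 : Commute v (a * b * (b * a)⁻¹) :=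
      (hva.mul_right hvb).mul_right (hvb.mul_right hva).inv_right
    exact h1.mul_left h2
  have e3 : ⁅u * a, v * b⁆ = (u * a) * (v * b) * ((v * b) * (u * a))⁻¹ := by
    simp only [commutatorElement_def]; group
  rw [e3, e1, e2]
  have e4 : (u * v) * (a * b) * ((u * v) * (b * a))⁻¹ = (u * v) * (a * b * (b * a)⁻¹) * (u * v)⁻¹ := by
    group
  rw [e4, hc.eq]
  simp only [commutatorElement_def]
  group

section
variable (L : Loc S K M q) (H : Struct1 S T) {σ : MulAut ↥(S : Subgroup G)} (hT : IsImg σ T)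
include L H hT

/-- `Q' = (σ Q)'`. -/
theorem comm_eq : ⁅pCore p G, pCore p G⁆ = ⁅qp σ, qp σ⁆ := by
  have hVab : ∀ v ∈ vOf (S : Subgroup G), ∀ c ∈ pCore p G, Commute v c := fun v hv c hc => L.hVcen v hv c hc
  have hTab : ∀ t ∈ T, ∀ c ∈ qp σ, Commute t c := fun t ht c hc => comm_T_qp L H hT ht hc
  apply le_antisymm
  · rw [commutator_le]
    intro a ha b hb
    obtain ⟨v, hv, d, hd, hd', rfl⟩ := q_dec L H hT ha
    obtain ⟨w, hw, e, he, he', rfl⟩ := q_dec L H hT hb
    rw [comm_central (hVab v hv w (L.hVQ hw)) (hVab v hv d hd) (hVab v hv e he)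
      (hVab w hw d hd) (hVab w hw e he)]
    exact commutator_mem_commutator hd' he'
  · rw [commutator_le]
    intro a ha b hb
    obtain ⟨v, hv, d, hd, hd', rfl⟩ := qp_dec L H hT ha
    obtain ⟨w, hw, e, he, he', rfl⟩ := qp_dec L H hT hb
    rw [comm_central (hTab v hv w (T_le_qp L H hT hw)) (hTab v hv d hd') (hTab v hv e he')
      (hTab w hw d hd') (hTab w hw e he')]
    exact commutator_mem_commutator hd he

/-- The form of `hQdec` needed in `qd_struct`. -/
theorem hQdec : ∀ a ∈ pCore p G, ∃ v ∈ vOf (S : Subgroup G), ∃ d ∈ pCore p G,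
    a = v * d ∧ ∀ t ∈ T, d * t = t * d := by
  intro a ha
  obtain ⟨v, hv, d, hd, hd', rfl⟩ := q_dec L H hT ha
  exact ⟨v, hv, d, hd, rfl, fun t ht => (comm_T_qp L H hT ht hd').symm⟩

end

end Cfsg.Agent.Lib.PU.QdDec
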