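/-
PU module QdLocal (for S2766): the `H`-level argument.
Marks with `X = H`, `autS` induced by `N_H(S)`; `amal_core`; `p ≥ 5` excludes `Struct2`; `Q` abelian; `qd_struct`.
-/
import Cfsg.Agent.Lib.PU.AmalMain
import Cfsg.Agent.Lib.PU.LocOf
import Cfsg.Agent.Lib.PU.FinalII
import Cfsg.Agent.Lib.PU.Qd
import Cfsg.Agent.Lib.PU.QdDec

set_option autoImplicit false
set_option linter.unusedSectionVars false
set_option linter.unusedVariables false
namespace Cfsg.Agent.Lib.PU.QdLocal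
open Subgroup Cfsg
open scoped commutatorElement MatrixGroups

variable {H : Type*} [Group H] [Finite H] {p : ℕ} [Fact p.Prime] (G : Subgroup H) (S : Sylow p ↥G)

/-- The image of `S` in `H`. -/
abbrev St : Subgroup H := (S : Subgroup ↥G).map G.subtype

/-- Automorphisms of `S` induced by `N_H(S)`. -/
def autN : Subgroup (MulAut ↥(S : Subgroup ↥G)) where
  carrier := {σ | ∃ x ∈ normalizer (St G S : Set H), ∀ s : ↥(S : Subgroup ↥G),
    (((σ s : ↥(S : Subgroup ↥G)) : ↥G) : H) = x * ((s : ↥G) : H) * x⁻¹}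
  one_mem' := ⟨1, one_mem _, fun s => by simp⟩
  mul_mem' := by
    rintro σ τ ⟨x, hx, hσ⟩ ⟨y, hy, hτ⟩
    refine ⟨x * y, mul_mem hx hy, fun s => ?_⟩
    rw [MulAut.mul_apply, hσ, hτ]
    group
  inv_mem' := by
    rintro σ ⟨x, hx, hσ⟩
    refine ⟨x⁻¹, inv_mem hx, fun s => ?_⟩
    have h := hσ (σ⁻¹ s)
    rw [MulAut.apply_inv_self] at h
    rw [h]
    group

variable {G S}

/-- An element inducing an automorphism of `S` normalizes `S`. -/
lemma mem_norm_of_aut {y : H} {σ : MulAut ↥(S : Subgroup ↥G)}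
    (hσ : ∀ s : ↥(S : Subgroup ↥G), (((σ s : ↥(S : Subgroup ↥G)) : ↥G) : H) = y * ((s : ↥G) : H) * y⁻¹) :
    y ∈ normalizer (St G S : Set H) := by
  rw [mem_normalizer_iff]
  intro h
  constructor
  · rintro ⟨s, hs, rfl⟩
    refine ⟨σ ⟨s, hs⟩, (σ ⟨s, hs⟩).2, ?_⟩
    exact hσ ⟨s, hs⟩
  · rintro ⟨s, hs, hsh⟩
    have h1 := hσ (σ⁻¹ ⟨s, hs⟩)
    rw [MulAut.apply_inv_self] at h1
    have h2 : y * h * y⁻¹ = y * ((((σ⁻¹ ⟨s, hs⟩ : ↥(S : Subgroup ↥G))) : ↥G) : H) * y⁻¹ := by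
      rw [← h1]
      exact hsh.symm
    have h3 : h = ((((σ⁻¹ ⟨s, hs⟩ : ↥(S : Subgroup ↥G))) : ↥G) : H) := by
      exact mul_left_cancel (mul_right_cancel h2)
    rw [h3]
    exact ⟨_, (σ⁻¹ ⟨s, hs⟩ : ↥(S : Subgroup ↥G)).2, rfl⟩

/-- An element of `N_H(S)` induces an automorphism of `S`. -/
lemma exists_aut_of_mem {y : H} (hy : y ∈ normalizer (St G S : Set H)) :
    ∃ σ : MulAut ↥(S : Subgroup ↥G), σ ∈ autN G S ∧ ∀ s : ↥(S : Subgroup ↥G),
      (((σ s : ↥(S : Subgroup ↥G)) : ↥G) : H) = y * ((s : ↥G) : H) * y⁻¹ := by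
  have hS : (S : Subgroup ↥G).map G.subtype =
      (S : Subgroup ↥G).map ((MulAut.conj y).toMonoidHom.comp G.subtype) := by
    ext h
    rw [mem_normalizer_iff] at hy
    constructor
    · intro hh
      have h1 : y⁻¹ * h * y ∈ St G S := by
        have := (hy (y⁻¹ * h * y)).2 (by simpa [mul_assoc] using hh)
        exact this
      obtain ⟨s, hs, hsh⟩ := h1
      refine ⟨s, hs, ?_⟩
      simp only [MonoidHom.comp_apply, MulEquiv.coe_toMonoidHom, MulAut.conj_apply]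
      have hsh' : ((s : ↥G) : H) = y⁻¹ * h * y := hsh
      change y * ((s : ↥G) : H) * y⁻¹ = h
      rw [hsh']
      group
    · rintro ⟨s, hs, rfl⟩
      exact (hy _).1 ⟨s, hs, rfl⟩
  obtain ⟨σ, hσ⟩ := aut_of_Sv (f := G.subtype) (f' := (MulAut.conj y).toMonoidHom.comp G.subtype)
    G.subtype_injective ((MulAut.conj y).injective.comp G.subtype_injective) hS
  have hσ' : ∀ s : ↥(S : Subgroup ↥G),
      (((σ s : ↥(S : Subgroup ↥G)) : ↥G) : H) = y * ((s : ↥G) : H) * y⁻¹ := fun s => (hσ s).symm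
  exact ⟨σ, ⟨y, hy, hσ'⟩, hσ'⟩

variable (G S)

/-- The marks `x ↦ conj x ∘ G.subtype` in `H`. -/
def marksH : Marks (S : Subgroup ↥G) H where
  mk₀ := {f | ∃ x : H, f = (MulAut.conj x).toMonoidHom.comp G.subtype}
  inj := by
    rintro f ⟨x, rfl⟩
    exact (MulAut.conj x).injective.comp G.subtype_injective
  conjG := by
    rintro f ⟨x, rfl⟩ g
    refine ⟨x * (g : H), ?_⟩
    ext a
    simp only [MonoidHom.comp_apply, MulEquiv.coe_toMonoidHom, MulAut.conj_apply, Subgroup.coe_subtype,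
      coe_mul, coe_inv]
    group
  conjX := by
    rintro f ⟨x, rfl⟩ y
    refine ⟨y * x, ?_⟩
    ext a
    simp only [MonoidHom.comp_apply, MulEquiv.coe_toMonoidHom, MulAut.conj_apply, Subgroup.coe_subtype]
    group
  autS := autN G S
  aut := by
    rintro f ⟨x, rfl⟩ σ ⟨y, hy, hσ⟩
    refine ⟨_, ⟨x * y, rfl⟩, fun s => ?_⟩
    simp only [MonoidHom.comp_apply, MulEquiv.coe_toMonoidHom, MulAut.conj_apply, Subgroup.coe_subtype]
    rw [hσ]
    group
  adj := by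
    rintro f ⟨x, rfl⟩ f' ⟨x', rfl⟩ hS
    obtain ⟨σ, hσ⟩ := aut_of_Sv ((MulAut.conj x).injective.comp G.subtype_injective)
      ((MulAut.conj x').injective.comp G.subtype_injective) hS
    have hσ' : ∀ s : ↥(S : Subgroup ↥G), (((σ s : ↥(S : Subgroup ↥G)) : ↥G) : H) =
        (x⁻¹ * x') * ((s : ↥G) : H) * (x⁻¹ * x')⁻¹ := by
      intro s
      have h1 := hσ s
      simp only [MonoidHom.comp_apply, MulEquiv.coe_toMonoidHom, MulAut.conj_apply, Subgroup.coe_subtype] at h1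
      have h2 : ((((σ s : ↥(S : Subgroup ↥G))) : ↥G) : H) =
          x⁻¹ * (x * ((((σ s : ↥(S : Subgroup ↥G))) : ↥G) : H) * x⁻¹) * x := by group
      rw [h2, ← h1]
      group
    exact ⟨σ, ⟨x⁻¹ * x', mem_norm_of_aut hσ', hσ'⟩, hσ⟩
  ne := ⟨_, 1, rfl⟩

variable {G S}

omit [Finite H] in
/-- `R.map (conj n) = R` implies that `n` normalizes `R`. -/
lemma mem_normalizer_of_map_eq {R : Subgroup H} {n : H} (h : R.map (MulAut.conj n).toMonoidHom = R) :
    n ∈ normalizer (R : Set H) := by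
  rw [mem_normalizer_iff]
  intro a
  constructor
  · intro ha
    rw [← h]
    exact ⟨a, ha, rfl⟩
  · intro ha
    rw [← h] at ha
    obtain ⟨r, hr, hra⟩ := ha
    have : r = a := by
      have := (MulAut.conj n).injective hra
      exact this
    exact this ▸ hr

/-- `G` normalizes the image of a normal subgroup of `G`. -/
lemma le_normalizer_of_normal (R : Subgroup ↥G) [hR : R.Normal] :
    G ≤ normalizer ((R.map G.subtype : Subgroup H) : Set H) := by
  intro g hg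
  rw [mem_normalizer_iff]
  intro a
  constructor
  · rintro ⟨r, hr, rfl⟩
    exact ⟨⟨g, hg⟩ * r * ⟨g, hg⟩⁻¹, hR.conj_mem r hr _, rfl⟩
  · rintro ⟨r, hr, hra⟩
    have h1 := hR.conj_mem r hr (⟨g, hg⟩⁻¹)
    refine ⟨_, h1, ?_⟩
    have hra' : (r : H) = g * a * g⁻¹ := hra
    simp only [Subgroup.coe_subtype, coe_mul, coe_inv, inv_inv, hra']
    group

/-- There is no nontrivial `N_H(S)`-invariant subgroup of `S` normal in `G`. -/
lemma noInv (hmax : ∀ R : Subgroup H, IsPGroup p ↥R → R ≠ ⊥ → G ≤ normalizer (R : Set H) →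
      normalizer (R : Set H) = G)
    (hN : ¬ normalizer ((St G S : Subgroup H) : Set H) ≤ G) : NoInv (marksH G S) := by
  intro T hT hinv hn
  have hSp : IsPGroup p ↥(S : Subgroup ↥G) := S.isPGroup'
  set R₀ : Subgroup ↥G := T.map (S : Subgroup ↥G).subtype with hR₀
  set R : Subgroup H := R₀.map G.subtype with hR
  have hRp : IsPGroup p ↥R := (hSp.to_le (map_subtype_le T)).map G.subtype
  have hR1 : R ≠ ⊥ := by
    intro h
    apply hT
    have h1 : R₀ = ⊥ := (Subgroup.map_eq_bot_iff_of_injective _ G.subtype_injective).1 h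
    exact (Subgroup.map_eq_bot_iff_of_injective _ (S : Subgroup ↥G).subtype_injective).1 h1
  have hGR : G ≤ normalizer (R : Set H) := le_normalizer_of_normal R₀
  have key : ∀ y ∈ normalizer (St G S : Set H), ∀ h ∈ R, y * h * y⁻¹ ∈ R := by
    intro y hy h hh
    obtain ⟨σ, hσA, hσ⟩ := exists_aut_of_mem hy
    obtain ⟨_, ⟨t, ht, rfl⟩, rfl⟩ := hh
    have h1 : σ t ∈ T := hinv σ hσA ⟨t, ht, rfl⟩
    refine ⟨_, ⟨σ t, h1, rfl⟩, ?_⟩
    exact hσ t
  have hNR : normalizer (St G S : Set H) ≤ normalizer (R : Set H) := by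
    intro y hy
    rw [mem_normalizer_iff]
    intro h
    refine ⟨key y hy h, fun hh => ?_⟩
    have := key y⁻¹ (inv_mem hy) _ hh
    simpa [mul_assoc] using this
  rw [hmax R hRp hR1 hGR] at hNR
  exact hN hNR

/-- The main theorem of the file. -/
theorem main (hp : 5 ≤ p)
    (hmax : ∀ R : Subgroup H, IsPGroup p ↥R → R ≠ ⊥ → G ≤ normalizer (R : Set H) →
      normalizer (R : Set H) = G)
    (hE₁ : centralizer (Cfsg.pCore p ↥G : Set ↥G) ≤ Cfsg.pCore p ↥G)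
    (hE₂ : ∃! M : Subgroup ↥G, IsCoatom M ∧ (S : Subgroup ↥G) ≤ M) (K : Subgroup ↥G) [K.Normal]
    (F : Type) [Field F] [Fintype F] (n : ℕ) (hn : 1 ≤ n) (hF : Fintype.card F = p ^ n)
    (hE₃ : Nonempty (↥G ⧸ K ≃* Matrix.ProjectiveSpecialLinearGroup (Fin 2) F))
    (hN : ¬ normalizer (((S : Subgroup ↥G).map G.subtype : Subgroup H) : Set H) ≤ G) :
    ∃ G₀ E : Subgroup H, Cfsg.IsInternalDirectProduct G₀ E G ∧ Cfsg.IsElementaryAbelian p E ∧
      Nonempty (↥G₀ ≃* ↥(Cfsg.qdOver F)) := by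
  classical
  have hA : NoInv (marksH G S) := noInv hmax hN
  have hd : ∀ T : Subgroup ↥(S : Subgroup ↥G), T ≠ ⊥ → T.Characteristic →
      ¬ (T.map (S : Subgroup ↥G).subtype).Normal := by
    intro T hT hc
    refine hA T hT (fun σ _ => ?_)
    exact (Subgroup.characteristic_iff_map_le.1 hc) σ
  obtain ⟨M, Ψ, c⟩ := loc_of_hyp S hE₁ hE₂ K F n hn hF hE₃ hd
  have L := c.loc
  rcases amal_core L (marksH G S) hA with ⟨f₁, ⟨x₁, rfl⟩, f₂, ⟨x₂, rfl⟩, hSv, hst⟩ | ⟨hp2, N, E, X, T₀, T, hst⟩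
  swap
  · have := p_eq_three c hp2 hst
    omega
  -- the automorphism of `S`
  obtain ⟨σ, hσ⟩ := aut_of_Sv (S := (S : Subgroup ↥G))
    ((MulAut.conj x₂).injective.comp G.subtype_injective)
    ((MulAut.conj x₁).injective.comp G.subtype_injective) hSv
  set T : Subgroup ↥G := (Vv (S : Subgroup ↥G) ((MulAut.conj x₁).toMonoidHom.comp G.subtype)).comap
    ((MulAut.conj x₂).toMonoidHom.comp G.subtype) with hTdef
  have hVS : vOf (S : Subgroup ↥G) ≤ (S : Subgroup ↥G) :=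
    L.hVQ.trans (Cfsg.Agent.Lib.Core.Basic.pCore_le_sylow S)
  have hinj₂ : Function.Injective ((MulAut.conj x₂).toMonoidHom.comp G.subtype) :=
    (MulAut.conj x₂).injective.comp G.subtype_injective
  have hT : QdDec.IsImg σ T := by
    intro g
    constructor
    · rintro ⟨v, hv, hvg⟩
      refine ⟨⟨v, hVS hv⟩, hv, ?_⟩
      apply hinj₂
      rw [← hvg]
      exact (hσ ⟨v, hVS hv⟩)
    · rintro ⟨v, hv, rfl⟩
      exact ⟨v, hv, hσ v⟩
  -- `n`
  set y : H := x₂⁻¹ * x₁ with hy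
  have hσy : ∀ s : ↥(S : Subgroup ↥G),
      (((σ s : ↥(S : Subgroup ↥G)) : ↥G) : H) = y * ((s : ↥G) : H) * y⁻¹ := by
    intro s
    have h1 := hσ s
    simp only [MonoidHom.comp_apply, MulEquiv.coe_toMonoidHom, MulAut.conj_apply, Subgroup.coe_subtype] at h1
    have h2 : ((((σ s : ↥(S : Subgroup ↥G))) : ↥G) : H) =
        x₂⁻¹ * (x₂ * ((((σ s : ↥(S : Subgroup ↥G))) : ↥G) : H) * x₂⁻¹) * x₂ := by group
    rw [h2, ← h1, hy]
    group
  -- `Q` abelian
  have hQ : ⁅pCore p ↥G, pCore p ↥G⁆ = ⊥ := by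
    by_contra hne
    set R₀ : Subgroup ↥G := ⁅pCore p ↥G, pCore p ↥G⁆ with hR₀
    have hR₀n : R₀.Normal := Subgroup.commutator_normal _ _
    set R : Subgroup H := R₀.map G.subtype with hR
    have hQS : pCore p ↥G ≤ (S : Subgroup ↥G) := Cfsg.Agent.Lib.Core.Basic.pCore_le_sylow S
    have hRp : IsPGroup p ↥R :=
      (S.isPGroup'.to_le ((commutator_le_left _ _).trans hQS)).map G.subtype
    have hR1 : R ≠ ⊥ := by
      intro h
      exact hne ((Subgroup.map_eq_bot_iff_of_injective _ G.subtype_injective).1 h)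
    have hGR : G ≤ normalizer (R : Set H) := le_normalizer_of_normal R₀
    -- `y` normalizes `R`
    have hmap : ((pCore p ↥G).map G.subtype).map (MulAut.conj y).toMonoidHom =
        (QdDec.qp σ).map G.subtype := by
      ext a
      constructor
      · rintro ⟨_, ⟨c, hc, rfl⟩, rfl⟩
        refine ⟨_, QdDec.mem_qp.2 ⟨⟨c, hQS hc⟩, hc, rfl⟩, ?_⟩
        exact hσy ⟨c, hQS hc⟩
      · rintro ⟨_, hb, rfl⟩
        obtain ⟨c, hc, rfl⟩ := QdDec.mem_qp.1 hb
        refine ⟨_, ⟨c, hc, rfl⟩, ?_⟩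
        exact (hσy c).symm
    have hyR : R.map (MulAut.conj y).toMonoidHom = R := by
      rw [hR, hR₀, map_commutator, map_commutator, hmap, ← map_commutator,
        ← QdDec.comm_eq L hst hT, map_commutator]
    have hyN : y ∈ normalizer (R : Set H) := mem_normalizer_of_map_eq hyR
    rw [hmax R hRp hR1 hGR] at hyN
    -- then `T = V`
    obtain ⟨t, ht, v, hv, hne'⟩ := hst.hne
    have htV : t ∈ vOf (S : Subgroup ↥G) := by
      obtain ⟨w, hw, rfl⟩ := (hT t).1 ht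
      have hVn : (vOf (S : Subgroup ↥G)).Normal := normalClosure_normal
      have h1 := hVn.conj_mem _ hw ⟨y, hyN⟩
      have h2 : ((σ w : ↥(S : Subgroup ↥G)) : ↥G) = ⟨y, hyN⟩ * (w : ↥G) * ⟨y, hyN⟩⁻¹ :=
        Subtype.ext (hσy w)
      rw [h2]
      exact h1
    exact hne' (L.hVcen t htV v (L.hVQ hv))
  have hQab : ∀ a ∈ pCore p ↥G, ∀ b ∈ pCore p ↥G, a * b = b * a := by
    intro a ha b hb
    have h1 : ⁅a, b⁆ ∈ ⁅pCore p ↥G, pCore p ↥G⁆ := commutator_mem_commutator ha hb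
    rw [hQ] at h1
    exact commutatorElement_eq_one_iff_mul_comm.1 ((Subgroup.mem_bot).1 h1)
  obtain ⟨G₀, E, ⟨-, -, hcomm, hinf, hsup⟩, ⟨hEab, hEexp⟩, ⟨iso⟩⟩ :=
    qd_struct c hst hp hQab (QdDec.hQdec L hst hT)
  refine ⟨G₀.map G.subtype, E.map G.subtype, ⟨map_subtype_le _, map_subtype_le _, ?_, ?_, ?_⟩, ⟨?_, ?_⟩, ?_⟩
  · rintro _ ⟨a, ha, rfl⟩ _ ⟨b, hb, rfl⟩
    exact congrArg Subtype.val (hcomm a ha b hb)
  · rw [← Subgroup.map_inf _ _ _ G.subtype_injective, hinf, Subgroup.map_bot]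
  · rw [← Subgroup.map_sup, hsup, ← MonoidHom.range_eq_map, Subgroup.range_subtype]
  · refine ⟨⟨?_⟩⟩
    rintro ⟨_, a, ha, rfl⟩ ⟨_, b, hb, rfl⟩
    apply Subtype.ext
    have h1 : (⟨a, ha⟩ : ↥E) * ⟨b, hb⟩ = ⟨b, hb⟩ * ⟨a, ha⟩ := hEab.is_comm.comm _ _
    exact congrArg (fun x : ↥E => ((x : ↥G) : H)) h1
  · rintro _ ⟨a, ha, rfl⟩
    have := hEexp a ha
    rw [← map_pow, this, map_one]
  · exact ⟨(G₀.equivMapOfInjective G.subtype G.subtype_injective).symm.trans iso⟩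

end Cfsg.Agent.Lib.PU.QdLocal
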