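import Cfsg.Prelude.Def_LocalEven

/-!
# `qdOver F` as the matrices `[[A, w], [0, 1]]`, `A ∈ SL₂(F)`, `w ∈ F²`

An abstract criterion: a group with a homomorphism `ρ` onto `SL₂(F)` and a cocycle `τ` which is jointly bijective
is isomorphic to `qdOver F`.
-/

set_option autoImplicit false

namespace Cfsg.Agent.Lib.PU.QdMat

open Cfsg
open scoped MatrixGroups

variable {F : Type*} [Field F]

/-- The matrix `[[A, w], [0, 1]]`. -/
def mat3 (A : SL(2, F)) (w : Fin 2 → F) : SL(3, F) :=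
  ⟨!![(A : Matrix (Fin 2) (Fin 2) F) 0 0, (A : Matrix (Fin 2) (Fin 2) F) 0 1, w 0;
      (A : Matrix (Fin 2) (Fin 2) F) 1 0, (A : Matrix (Fin 2) (Fin 2) F) 1 1, w 1;
      0, 0, 1], by
    have h := A.det_coe
    rw [Matrix.det_fin_two] at h
    rw [Matrix.det_fin_three]
    simp
    linear_combination h⟩

theorem mat3_apply (A : SL(2, F)) (w : Fin 2 → F) :
    (mat3 A w : Matrix (Fin 3) (Fin 3) F) =
      !![(A : Matrix (Fin 2) (Fin 2) F) 0 0, (A : Matrix (Fin 2) (Fin 2) F) 0 1, w 0;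
      (A : Matrix (Fin 2) (Fin 2) F) 1 0, (A : Matrix (Fin 2) (Fin 2) F) 1 1, w 1;
      0, 0, 1] := rfl

theorem mat3_mul (A B : SL(2, F)) (v w : Fin 2 → F) :
    mat3 A v * mat3 B w = mat3 (A * B) (v + (A : Matrix (Fin 2) (Fin 2) F).mulVec w) := by
  apply Subtype.ext
  rw [Matrix.SpecialLinearGroup.coe_mul, mat3_apply, mat3_apply, mat3_apply,
    Matrix.SpecialLinearGroup.coe_mul]
  ext i j
  fin_cases i <;> fin_cases j <;>
    simp [Matrix.mul_apply, Fin.sum_univ_three, Fin.sum_univ_two] <;> ring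

theorem mat3_mem (A : SL(2, F)) (w : Fin 2 → F) : mat3 A w ∈ qdOver F := by
  apply Subgroup.subset_closure
  simp [mat3_apply]

/-- Elements of `qdOver F` have last row `(0, 0, 1)`. -/
theorem last_row {M : SL(3, F)} (hM : M ∈ qdOver F) :
    (M : Matrix (Fin 3) (Fin 3) F) 2 0 = 0 ∧ (M : Matrix (Fin 3) (Fin 3) F) 2 1 = 0 ∧
      (M : Matrix (Fin 3) (Fin 3) F) 2 2 = 1 := by
  induction hM using Subgroup.closure_induction with
  | mem x hx => exact hx
  | one => simp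
  | mul x y _ _ hx hy =>
    obtain ⟨a, b, c⟩ := hx
    obtain ⟨d, e, f⟩ := hy
    simp [Matrix.mul_apply, Fin.sum_univ_three, a, b, c, d, e, f]
  | inv x _ hx =>
    obtain ⟨a, b, c⟩ := hx
    have hdet := x.det_coe
    rw [Matrix.det_fin_three, a, b, c] at hdet
    have hadj : ((x⁻¹ : SL(3, F)) : Matrix (Fin 3) (Fin 3) F) = (x : Matrix (Fin 3) (Fin 3) F).adjugate := by
      simp [Matrix.SpecialLinearGroup.coe_inv]
    rw [hadj, Matrix.adjugate_fin_three]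
    simp [a, b, c]
    simpa using hdet

/-- Every element of `qdOver F` is some `mat3`. -/
theorem exists_mat3 {M : SL(3, F)} (hM : M ∈ qdOver F) :
    ∃ (A : SL(2, F)) (w : Fin 2 → F), M = mat3 A w := by
  obtain ⟨a, b, c⟩ := last_row hM
  have hdet := M.det_coe
  rw [Matrix.det_fin_three, a, b, c] at hdet
  obtain ⟨A, h00, h01, h10, h11⟩ : ∃ A : SL(2, F),
      (A : Matrix (Fin 2) (Fin 2) F) 0 0 = (M : Matrix (Fin 3) (Fin 3) F) 0 0 ∧
      (A : Matrix (Fin 2) (Fin 2) F) 0 1 = (M : Matrix (Fin 3) (Fin 3) F) 0 1 ∧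
      (A : Matrix (Fin 2) (Fin 2) F) 1 0 = (M : Matrix (Fin 3) (Fin 3) F) 1 0 ∧
      (A : Matrix (Fin 2) (Fin 2) F) 1 1 = (M : Matrix (Fin 3) (Fin 3) F) 1 1 :=
    ⟨⟨!![(M : Matrix (Fin 3) (Fin 3) F) 0 0, (M : Matrix (Fin 3) (Fin 3) F) 0 1;
      (M : Matrix (Fin 3) (Fin 3) F) 1 0, (M : Matrix (Fin 3) (Fin 3) F) 1 1], by
        rw [Matrix.det_fin_two]
        simp
        linear_combination hdet⟩, rfl, rfl, rfl, rfl⟩
  refine ⟨A, ![(M : Matrix (Fin 3) (Fin 3) F) 0 2, (M : Matrix (Fin 3) (Fin 3) F) 1 2], ?_⟩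
  apply Matrix.SpecialLinearGroup.ext
  intro i j
  rw [mat3_apply]
  fin_cases i <;> fin_cases j <;> simp [a, b, c, h00, h01, h10, h11]

theorem mat3_inj {A B : SL(2, F)} {v w : Fin 2 → F} (h : mat3 A v = mat3 B w) : A = B ∧ v = w := by
  have h' : (mat3 A v : Matrix (Fin 3) (Fin 3) F) = (mat3 B w : Matrix (Fin 3) (Fin 3) F) :=
    congrArg _ h
  rw [mat3_apply, mat3_apply] at h'
  constructor
  · apply Subtype.ext
    ext i j
    fin_cases i <;> fin_cases j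
    · simpa using congrFun (congrFun h' 0) 0
    · simpa using congrFun (congrFun h' 0) 1
    · simpa using congrFun (congrFun h' 1) 0
    · simpa using congrFun (congrFun h' 1) 1
  · ext i
    fin_cases i
    · simpa using congrFun (congrFun h' 0) 2
    · simpa using congrFun (congrFun h' 1) 2

theorem mat3_one : mat3 (1 : SL(2, F)) 0 = 1 := by
  apply Matrix.SpecialLinearGroup.ext
  intro i j
  rw [mat3_apply]
  fin_cases i <;> fin_cases j <;> simp

/-- A group with `ρ`, `τ` as below is isomorphic to `qdOver F`. -/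
theorem iso_of_cocycle {X : Type*} [Group X] (ρ : X →* SL(2, F)) (τ : X → (Fin 2 → F))
    (hτ : ∀ g h, τ (g * h) = τ g + ((ρ g : SL(2, F)) : Matrix (Fin 2) (Fin 2) F).mulVec (τ h))
    (hinj : ∀ g, ρ g = 1 → τ g = 0 → g = 1)
    (hsurj : ∀ (A : SL(2, F)) (w : Fin 2 → F), ∃ g, ρ g = A ∧ τ g = w) :
    Nonempty (X ≃* ↥(qdOver F)) := by
  let φ : X →* ↥(qdOver F) := MonoidHom.mk' (fun g => ⟨mat3 (ρ g) (τ g), mat3_mem _ _⟩) (by
    intro a b
    apply Subtype.ext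
    change mat3 (ρ (a * b)) (τ (a * b)) = mat3 (ρ a) (τ a) * mat3 (ρ b) (τ b)
    rw [mat3_mul, map_mul, hτ])
  refine ⟨MulEquiv.ofBijective φ ⟨?_, ?_⟩⟩
  · rw [injective_iff_map_eq_one]
    intro g hg
    have h1 : mat3 (ρ g) (τ g) = mat3 (1 : SL(2, F)) 0 := by
      rw [mat3_one]
      exact congrArg Subtype.val hg
    obtain ⟨h2, h3⟩ := mat3_inj h1
    exact hinj g h2 h3
  · rintro ⟨M, hM⟩
    obtain ⟨A, w, rfl⟩ := exists_mat3 hM
    obtain ⟨g, rfl, rfl⟩ := hsurj A w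
    exact ⟨g, rfl⟩

end Cfsg.Agent.Lib.PU.QdMat
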